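import Groth.Agent.DoublePt.Base
import Groth.Agent.RatCompl.Normal
import Groth.Agent.PointBlow.CartierPart
import Groth.Agent.S2654
import Groth.Agent.KExact.BCNat
import Groth.Agent.R1Push.Support
import Groth.Prelude.Def_EGA4b

/-!
# Basic facts on normal surfaces over excellent rings
-/

set_option autoImplicit false
set_option linter.style.haveILetI false
set_option backward.isDefEq.respectTransparency false
set_option backward.isDefEq.respectTransparency.types false
set_option maxHeartbeats 800000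

universe u

open CategoryTheory CategoryTheory.Limits AlgebraicGeometry TopologicalSpace IsLocalRing
open Groth.Agent.NormSeq (Model locRing Nice)

noncomputable section

namespace Groth.Agent.SurfRes

theorem isNagata_of_isExcellent {R : Type u} [CommRing R] (hR : EGA4.IsExcellent R) : CAlg.IsNagata R :=
  S2654.result R ⟨hR.1, hR.2.2.1, hR.2.2.2⟩

/-- The regular locus of a scheme of finite type over a J-2 ring is open. -/
theorem isOpen_regular {R : Type u} [CommRing R] (hR : EGA4.IsJ2 R) {X : Scheme.{u}}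
    (q : X ⟶ Spec (CommRingCat.of R)) [LocallyOfFiniteType q] :
    IsOpen {x : X | IsRegularLocalRing (X.presheaf.stalk x)} := by
  refine isOpen_iff_forall_mem_open.2 fun x hx => ?_
  obtain ⟨_, ⟨U, hU, rfl⟩, hxU, -⟩ :=
    X.isBasis_affineOpens.exists_subset_of_mem_open (Set.mem_univ x) isOpen_univ
  letI : Algebra R Γ(X, U) := (q.appLE ⊤ U le_top |>.hom.comp (Scheme.ΓSpecIso (CommRingCat.of R)).inv.hom).toAlgebra
  haveI : Algebra.FiniteType R Γ(X, U) := by
    have h := q.finiteType_appLE (isAffineOpen_top _) hU le_top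
    exact h.comp (RingHom.FiniteType.of_surjective _
      (ConcreteCategory.bijective_of_isIso (Scheme.ΓSpecIso (CommRingCat.of R)).inv).2)
  have hopen : IsOpen (EGA4.regLocus Γ(X, U)) := hR Γ(X, U) inferInstance
  have key : ∀ (p : PrimeSpectrum Γ(X, U)) (y : X) (hy : y ∈ U), hU.fromSpec p = y →
      (IsRegularLocalRing (X.presheaf.stalk y) ↔ p ∈ EGA4.regLocus Γ(X, U)) := by
    intro p y hy hp
    obtain rfl : p = hU.primeIdealOf ⟨y, hy⟩ :=
      hU.fromSpec.isOpenEmbedding.injective (hp.trans (hU.fromSpec_primeIdealOf ⟨y, hy⟩).symm)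
    letI := X.presheaf.algebra_section_stalk ⟨y, hy⟩
    haveI := hU.isLocalization_stalk ⟨y, hy⟩
    let e : X.presheaf.stalk y ≃+* Localization.AtPrime (hU.primeIdealOf ⟨y, hy⟩).asIdeal :=
      (IsLocalization.algEquiv (hU.primeIdealOf ⟨y, hy⟩).asIdeal.primeCompl _ _).toRingEquiv
    exact ⟨fun h => IsRegularLocalRing.of_ringEquiv e, fun h => by
      haveI : IsRegularLocalRing (Localization.AtPrime (hU.primeIdealOf ⟨y, hy⟩).asIdeal) := h
      exact IsRegularLocalRing.of_ringEquiv e.symm⟩
  refine ⟨hU.fromSpec '' EGA4.regLocus Γ(X, U), ?_, hU.fromSpec.isOpenEmbedding.isOpenMap _ hopen, ?_⟩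
  · rintro _ ⟨p, hp, rfl⟩
    exact (key p _ (hU.range_fromSpec.le ⟨p, rfl⟩) rfl).2 hp
  · exact ⟨hU.primeIdealOf ⟨x, hxU⟩, (key _ x hxU (hU.fromSpec_primeIdealOf ⟨x, hxU⟩)).1 hx,
      hU.fromSpec_primeIdealOf ⟨x, hxU⟩⟩

/-- A normal surface of finite type over a J-2 ring has finitely many singular points, all closed. -/
theorem finite_singular {R : Type u} [CommRing R] (hR : EGA4.IsJ2 R) {X : Scheme.{u}} (hX : Nice X)
    (q : X ⟶ Spec (CommRingCat.of R)) [LocallyOfFiniteType q] :
    {x : X | ¬ IsRegularLocalRing (X.presheaf.stalk x)}.Finite := by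
  haveI := hX.noeth
  exact PointBlow.finite_of_closed_points (isOpen_regular hR q).isClosed_compl
    fun z hz => (DoublePt.dim_of_singular hX z hz).1

/-- A normal proper model of a nice base is nice. -/
theorem nice_of_model {Z₀ : Scheme.{u}} [IsIntegral Z₀] (h₀ : Nice Z₀) (M : Model Z₀) [IsProper M.G]
    (hn : Pi1.IsNormalScheme M.Z) : Nice M.Z := by
  haveI := h₀.noeth
  exact ⟨M.integral, KExact.BCNat.isNoetherian_of_ft M.G, hn, fun Z' _ g _ hg _ _ => h₀.fin_comp M.G M.bir Z' g hg,
    fun z => (NormSeq.dim_le M.G M.bir z).trans (h₀.dim _)⟩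

end Groth.Agent.SurfRes
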