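import Groth.Agent.S9801
import Groth.Agent.KFlatLib.Scheme.DualizingCM
import Groth.Agent.KFlatLib.Ring.InvertibleTwist
import Groth.Agent.KFlatLib.Ring.DualizingFibreRows
import Groth.Agent.QCoh.Tilde
import Groth.Agent.GeomIrrSpread.SmoothNeutral

/-!
# Dualizing modules of normal surface germs
-/

set_option autoImplicit false
set_option linter.style.haveILetI false
set_option backward.isDefEq.respectTransparency false
set_option backward.isDefEq.respectTransparency.types false
set_option maxHeartbeats 800000

universe u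

open CategoryTheory CategoryTheory.Limits AlgebraicGeometry TopologicalSpace

attribute [local instance] HasDerivedCategory.standard

noncomputable section

namespace Groth.Agent.SurfRes

theorem isDualizing_of_iso {A : Type u} [CommRing A] {ω ω' : Dual.D A} (e : ω ≅ ω') (h : Dual.IsDualizing A ω) :
    Dual.IsDualizing A ω' := by
  obtain ⟨a, b, hab⟩ := h.finite_injective_dimension
  refine ⟨h.isNoetherianRing, ⟨a, b, fun M _ _ i hi => ?_⟩, fun i => ?_, ?_, fun i hi => ?_⟩
  · haveI := hab M i hi
    exact (Iso.homCongr (Iso.refl _) ((shiftFunctor (Dual.D A) i).mapIso e)).symm.subsingleton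
  · haveI : Module.Finite A (((DerivedCategory.homologyFunctor (ModuleCat.{u} A) i).obj ω)) := h.finite_cohomology i
    exact Module.Finite.equiv ((DerivedCategory.homologyFunctor (ModuleCat.{u} A) i).mapIso e).toLinearEquiv
  · have hmap : (fun x : A => x • 𝟙 ω') = (fun f : ω ⟶ ω => Iso.homCongr e e f) ∘ fun x : A => x • 𝟙 ω := by
      funext x
      simp
    rw [hmap]
    exact (Iso.homCongr e e).bijective.comp h.toEnd_bijective
  · haveI := h.ext_self_subsingleton i hi
    exact (Iso.homCongr e ((shiftFunctor (Dual.D A) i).mapIso e)).symm.subsingleton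

/-- Normal domains of dimension two with a dualizing complex have a dualizing module. -/
theorem exists_dualizing_module (A : Type u) [CommRing A] [IsDomain A] [IsNoetherianRing A] [IsIntegrallyClosed A]
    (hdim : ringKrullDim A ≤ 2) {ω : Dual.D A} (hω : Dual.IsDualizing A ω) :
    ∃ (ωA : Type u) (_ : AddCommGroup ωA) (_ : Module A ωA), Dual.IsDualizing A (Dual.inD A ωA) := by
  haveI : IsNoetherianRing (CommRingCat.of A) := inferInstanceAs (IsNoetherianRing A)
  haveI : IsDomain (CommRingCat.of A) := inferInstanceAs (IsDomain A)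
  haveI : IsIntegrallyClosed (CommRingCat.of A) := inferInstanceAs (IsIntegrallyClosed A)
  have hcm : ∀ q : PrimeSpectrum A, ∃! i : ℤ, q ∈ Module.support A (Dual.HD A ω i) := fun q =>
    (KFlatLib.DualizingCM.cm_iff_existsUnique hω q).1 ((KFlatLib.DualizingCM.cm_stalk_iff (𝟙 _) q).1
      (S9801.result (Spec (CommRingCat.of A)) (GeomIrrSpread.isNormalScheme_spec (CommRingCat.of A))
        ((PrimeSpectrum.topologicalKrullDim_eq_ringKrullDim (R := A)).trans_le hdim) _))
  let η : PrimeSpectrum A := ⟨⊥, Ideal.isPrime_bot⟩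
  obtain ⟨i₀, hi₀, -⟩ := hcm η
  have hsub : ∀ i, i ≠ i₀ → Subsingleton (Dual.HD A ω i) := fun i hi =>
    (Module.support_eq_empty_iff (R := A)).1 (Set.eq_empty_iff_forall_notMem.2 fun q hq =>
      hi ((hcm q).unique hq (Module.mem_support_mono (show η ≤ q from (bot_le : (⊥ : Ideal A) ≤ q.asIdeal)) hi₀)))
  haveI : DerivedCategory.IsGE ω i₀ := (DerivedCategory.isGE_iff _ _).2 fun i hi => by
    haveI : Subsingleton ((DerivedCategory.homologyFunctor (ModuleCat.{u} A) i).obj ω) := hsub i (by omega)
    exact ModuleCat.isZero_of_subsingleton _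
  haveI : DerivedCategory.IsLE ω i₀ := (DerivedCategory.isLE_iff _ _).2 fun i hi => by
    haveI : Subsingleton ((DerivedCategory.homologyFunctor (ModuleCat.{u} A) i).obj ω) := hsub i (by omega)
    exact ModuleCat.isZero_of_subsingleton _
  obtain ⟨Y, ⟨e⟩⟩ := DerivedCategory.exists_iso_singleFunctor_obj_of_isGE_of_isLE ω i₀
  refine ⟨Y, inferInstance, inferInstance, isDualizing_of_iso ?_ (KFlatLib.isDualizing_shift hω i₀)⟩
  exact (shiftFunctor (Dual.D A) i₀).mapIso e ≪≫
    (((DerivedCategory.singleFunctors (ModuleCat.{u} A)).shiftIso i₀ 0 i₀ (add_zero _)).app Y)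

end Groth.Agent.SurfRes
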