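import Groth.Agent.SurfRes.Basic
import Groth.Agent.SurfRes.DualModule
import Groth.Agent.RatGor.Main
import Groth.Agent.KExact.GorensteinDual
import Groth.Agent.KExact.DualCM
import Groth.Agent.KFlatLib.Scheme.DQCohBrown
import Groth.Agent.KFlatLib.Scheme.RpushUnbounded
import Groth.Agent.KFlatLib.Scheme.ProjLocFree
import Groth.Agent.Lib.InvEnd
import Groth.Agent.S11179
import Groth.Agent.S11783

/-!
# Resolution of an excellent rational surface germ with normal completion
-/

set_option autoImplicit false
set_option linter.style.haveILetI false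
set_option linter.unusedSectionVars false
set_option backward.isDefEq.respectTransparency false
set_option backward.isDefEq.respectTransparency.types false
set_option maxHeartbeats 800000

universe u

open CategoryTheory CategoryTheory.Limits AlgebraicGeometry TopologicalSpace IsLocalRing
open Groth.Agent.NormSeq (Model locRing Nice)

attribute [local instance] HasDerivedCategory.standard

noncomputable section

namespace Groth.Agent.SurfRes

/-- An invertible top cohomology of the dualizing object gives Gorenstein points. -/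
theorem gorenstein_of_invertible {X : Scheme.{u}} [IsLocallyNoetherian X] {K : DCoh.D X}
    (hK : Dual2.IsDualizingSch X K) (hinv : PicF.IsInvertible (DCoh.HD K 0)) (y : X)
    (hCM : LocCoh.IsCohenMacaulayLocalRing (X.presheaf.stalk y)) :
    LocCoh.IsGorensteinLocalRing (X.presheaf.stalk y) := by
  haveI : ∀ (U V : Scheme.{u}) (j : U ⟶ V) [IsOpenImmersion j],
      PreservesFiniteLimits (Scheme.Modules.restrictFunctor j) := fun U V j _ => inferInstance
  haveI : ∀ (R : CommRingCat.{u}), PreservesFiniteLimits (tilde.functor R) := fun R => QCoh.tilde_preservesFiniteLimits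
  obtain ⟨U, hyU, ⟨e⟩⟩ := InvEnd.isFinLocFreeOfRank_one hinv y
  obtain ⟨l⟩ := KExact.exists_stalk_linearEquiv_of_free (KExact.isCoh_hd_dualizing hK 0).1 e hyU
  have hnt : Nontrivial ((DCoh.HD K 0).presheaf.stalk y) := l.toEquiv.nontrivial
  refine (KExact.gorenstein_stalk_iff hK y).2 ⟨0, fun i hi => not_nontrivial_iff_subsingleton.1 fun h => hi ?_, ⟨l⟩⟩
  exact (((KFlatLib.DualizingCM.cm_locus K hK).1 y).1 hCM).unique h hnt

variable {T : CommRingCat.{u}}

/-- The twisted inverse image of the dualizing module is dualizing. -/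
theorem exists_dualizing_shriek [IsNoetherianRing T] [IsLocalRing T] {ω : Dual.D T} (hω : Dual.IsDualizing T ω)
    {X : Scheme.{u}} (f : X ⟶ Spec T) [IsProper f] [DCoh.HasRpush f] (hf : DCoh.RpushPreservesQCoh f)
    [DCoh.HasShriek f hf] (W : DCoh.DQCoh (Spec T)) (eW : W.obj ≅ (DCoh.tildeD T).obj ω) :
    Dual2.IsDualizingSch X (DCoh.dualizingCx f hf W) := by
  haveI : ∀ (U V : Scheme.{u}) (j : U ⟶ V) [IsOpenImmersion j],
      PreservesFiniteLimits (Scheme.Modules.restrictFunctor j) := fun U V j _ => inferInstance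
  haveI : ∀ (R : CommRingCat.{u}), PreservesFiniteLimits (tilde.functor R) := fun R => QCoh.tilde_preservesFiniteLimits
  haveI : IsNoetherian X := KExact.BCNat.isNoetherian_of_ft f
  have hW : Dual2.IsDualizingSch (Spec T) W.obj := fun C _ j _ =>
    KFlatLib.DualizingCharts.exists_isDualizing_of_charts _ (fun x => by
      obtain ⟨i⟩ := KExact.BCNat.nonempty_rQ_id (𝟙 (Spec T)) rfl
      exact ⟨T, inferInstance, 𝟙 _, inferInstance, ω, ⟨x, rfl⟩, hω, inferInstance,
        ⟨(ObjectProperty.ι _).mapIso (i.app W) ≪≫ eW⟩⟩) C j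
  obtain ⟨iX⟩ := KExact.BCNat.nonempty_rQ_id (𝟙 X) rfl
  exact KExact.DualShriek.dualizing_of_iso ((ObjectProperty.ι _).mapIso (iX.app ((DCoh.shriek f hf).obj W)))
    (KExact.DualShriek.isDualizingSch_shriek (hφ := hf) (𝟙 X) f (DCoh.shriekAdj f hf) W
      (KExact.DualNormalized.isBddBelowQ_of_iso (A := T) hω eW) hW)

variable [IsDomain T] [IsLocalRing T] [IsNoetherianRing T] [IsIntegrallyClosed T]

/-- A normal modification whose local rings are Gorenstein. -/
theorem exists_gorenstein_model (hN : CAlg.IsNagata T) (hdim : ringKrullDim T = 2) (hA : Curv2.IsRationalSing T)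
    {ω : Dual.D T} (hω : Dual.IsDualizing T ω) :
    ∃ M : Model (Spec T), IsProper M.G ∧ Nice M.Z ∧
      ∀ y : M.Z, LocCoh.IsGorensteinLocalRing (M.Z.presheaf.stalk y) := by
  haveI : PreservesFiniteLimits (tilde.functor T) := QCoh.tilde_preservesFiniteLimits
  obtain ⟨ωA, _, _, hωA⟩ := exists_dualizing_module T hdim.le hω
  obtain ⟨X, f, hprop, hint, hXn, hbir, hinv⟩ :=
    RatGor.exists_gorenstein_modification (A := T) hN hdim hA ωA hωA
  haveI := hprop
  haveI := hint
  obtain ⟨hgen, hb⟩ := RatSing.birational_of_isIso f hbir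
  let M : Model (Spec T) := { Z := X, G := f, gen := hgen, bir := hb }
  have hM : Nice M.Z := nice_of_model (RatSing.nice_spec hN hdim) M hXn
  refine ⟨M, hprop, hM, fun y => ?_⟩
  haveI := hM.noeth
  haveI := (hXn y).1
  haveI := (hXn y).2
  haveI := KFlatLib.hasRpush_scheme f
  have hf : DCoh.RpushPreservesQCoh f := fun K hK => KFlatLib.isQCohD_rpush f hK
  haveI : CompactSpace X := QuasiCompact.compactSpace_of_compactSpace f
  haveI : QuasiSeparatedSpace X := quasiSeparatedSpace_of_quasiSeparated f
  haveI : DCoh.HasShriek f hf := KFlatLib.DQSmall.isLeftAdjoint_lift f hf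
  let W : DCoh.DQCoh (Spec T) := ⟨(DCoh.tildeD T).obj (Dual.inD T ωA), KFlatLib.isQCohD_tildeD T _⟩
  exact gorenstein_of_invertible (exists_dualizing_shriek hωA f hf W (Iso.refl _))
    (by
      have h := hinv hf W ⟨Iso.refl _⟩
      change PicF.IsInvertible (DCoh.HD (DCoh.dualizingCx f hf W) (-((0 : ℕ) : ℤ))) at h
      rwa [Nat.cast_zero, neg_zero] at h) y (CMClosed.of_normal_dim_le_two _ (hM.dim y))

/-- Excellent rational surface germs with normal completion and a dualizing complex have resolutions. -/
theorem exists_resolution_local (hexc : EGA4.IsExcellent T) (hdim : ringKrullDim T = 2) (hA : Curv2.IsRationalSing T)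
    {ω : Dual.D T} (hω : Dual.IsDualizing T ω)
    (hcpl : IsDomain (Curv2.cpl T) ∧ IsIntegrallyClosed (Curv2.cpl T)) :
    ∃ M : Model (Spec T), IsProper M.G ∧ Nice M.Z ∧ ∀ x : M.Z, IsRegularLocalRing (M.Z.presheaf.stalk x) := by
  classical
  have hN := isNagata_of_isExcellent hexc
  obtain ⟨M, hP, hM, hG⟩ := exists_gorenstein_model hN hdim hA hω
  haveI := hP
  haveI := hM.noeth
  have hR := RatSing.nice_spec hN hdim
  haveI := hR.noeth
  let M₀ : Model (Spec T) := { Z := Spec T, G := 𝟙 _, gen := rfl, bir := inferInstance }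
  haveI : IsProper M₀.G := inferInstanceAs (IsProper (𝟙 _))
  have hrat : ∀ (Y : Scheme.{u}) [IsIntegral Y] (g : Y ⟶ M₀.Z) [IsProper g], IsIso (g.stalkMap (genericPoint Y)) →
      Nice Y → ∀ y : Y, Curv2.IsRationalSing (Y.presheaf.stalk y) := fun Y _ g _ hbir hY y => by
    haveI : IsProper (M₀.comp g (SurfSeq.map_generic g hbir) hbir).G := inferInstanceAs (IsProper (g ≫ 𝟙 _))
    exact DoublePt.isRationalSing_of_modification hN hdim hA (M₀.comp g (SurfSeq.map_generic g hbir) hbir) hY y
  let G₀ : M.Z ⟶ M₀.Z := M.G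
  let M₁ := M₀.comp G₀ M.gen M.bir
  let S₀ : DoublePt.Stage M₀ :=
    { Y := M.Z, g := G₀, hgen := M.gen, hbir := M.bir, proper := hP, nice := hM
      finite := finite_singular hexc.2.2.2 hM M.G
      three := fun y hy => by
        obtain ⟨-, hd⟩ := DoublePt.dim_of_singular hM y hy
        haveI := (hM.normal y).1
        haveI := (hM.normal y).2
        haveI := hG y
        obtain ⟨a, b, c, h⟩ := DoublePt.exists_three (S11783.result (M.Z.presheaf.stalk y)
          (RatCompl.isExcellent_stalk hexc M.G y) hd (hrat M.Z G₀ M.bir hM y) (M.Z.presheaf.stalk y)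
          ((S11179.result (M.Z.presheaf.stalk y)).1 inferInstance))
        let e : M.Z.presheaf.stalk y ≃+* locRing M₁ y := DoublePt.stalkEquiv M₁ y
        refine ⟨e a, e b, e c, ?_⟩
        have h' := congrArg (Ideal.map (e : M.Z.presheaf.stalk y →+* locRing M₁ y)) h
        rw [Ideal.map_span, Set.image_insert_eq, Set.image_pair] at h'
        exact (IsLocalRing.map_ringEquiv_maximalIdeal e).symm.trans h'
      cpl := fun y hy => by
        obtain ⟨hycl, -⟩ := DoublePt.dim_of_singular hM y hy
        obtain ⟨hfin, hpt⟩ := R1Push.finite_bad hR.normal hR.dim M.G M.bir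
        let U : (Spec T).Opens := ⟨{closedPoint T}ᶜ,
          ((PrimeSpectrum.isClosed_singleton_iff_isMaximal _).2 (maximalIdeal.isMaximal T)).isOpen_compl⟩
        have hU : (U : Set (Spec T)).Nonempty := by
          refine ⟨⟨⊥, Ideal.isPrime_bot⟩, fun h => ?_⟩
          have h1 : (⊥ : Ideal T) = maximalIdeal T := congrArg PrimeSpectrum.asIdeal h
          have h2 : ringKrullDim T = 0 :=
            ringKrullDim_eq_zero_of_isField (IsLocalRing.isField_iff_maximalIdeal_eq.2 h1.symm)
          rw [hdim] at h2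
          exact absurd h2 (by decide)
        haveI : IsIso (M.G ∣_ U) := Sol.isIso_restrict_of_stalk M.G M.bir U hU fun w hw => by
          by_contra hn
          exact hw ((specializes_closedPoint (M.G w)).mem_closed (hpt _ ⟨w, hn, rfl⟩) rfl).symm
        have hy0 : M.G y = closedPoint T := by
          have h1 : IsClosed (M.G '' {y}) := M.G.isClosedMap _ hycl
          rw [Set.image_singleton] at h1
          exact ((specializes_closedPoint (M.G y)).mem_closed h1 rfl).symm
        haveI := hcpl.1
        haveI := hcpl.2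
        haveI : IsLocalRing (EGA4.Cpl T) := FlatLoc6.isLocalRing_cpl T
        haveI : IsLocalRing (Curv2.cpl T) := FlatLoc6.isLocalRing_cpl T
        haveI : IsNoetherianRing (Curv2.cpl T) := FlatLoc6.isNoetherianRing_cpl T
        haveI : IsAdicComplete (maximalIdeal (Curv2.cpl T)) (Curv2.cpl T) := CplFib6.isAdicComplete_cpl T
        haveI : Module.FaithfullyFlat T (Curv2.cpl T) := FlatLoc6.faithfullyFlat_cpl T
        exact RatCompl.normal_cpl_stalk (A := T) (R := Curv2.cpl T) (RatCompl.cpl_maxMap T) (RatCompl.cpl_resLift T)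
          hdim ((RatCompl.dim_cpl T).trans hdim) (S2652.result (Curv2.cpl T)) M.G hM.normal hM.dim hU
          (fun t ht => not_not.1 ht) y hy0 }
  obtain ⟨S, hS⟩ := DoublePt.exists_regular_stage hN (M₀ := M₀) hrat S₀
  exact ⟨S.M, S.proper_M, S.nice, hS⟩

end Groth.Agent.SurfRes
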