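import Groth.Agent.SurfRes.Glue
import Groth.Agent.SurfRes.Local
import Groth.Agent.GrLib8.HlvtNormal

/-!
# Resolution of normal excellent surfaces with rational singularities
-/

set_option autoImplicit false
set_option linter.style.haveILetI false
set_option linter.unusedSectionVars false
set_option backward.isDefEq.respectTransparency false
set_option backward.isDefEq.respectTransparency.types false
set_option maxHeartbeats 800000

universe u

open CategoryTheory CategoryTheory.Limits AlgebraicGeometry TopologicalSpace IsLocalRing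
open Groth.Agent.NormSeq (Model Nice)

attribute [local instance] HasDerivedCategory.standard

noncomputable section

namespace Groth.Agent.SurfRes

/-- A local ring of a scheme of finite type over a ring with a dualizing complex has one. -/
theorem exists_dualizing_stalk {R : CommRingCat.{u}} {ω : Dual.D R} (hω : Dual.IsDualizing R ω) {Z : Scheme.{u}}
    (q : Z ⟶ Spec R) [LocallyOfFiniteType q] (z : Z) :
    ∃ ω' : Dual.D (Z.presheaf.stalk z), Dual.IsDualizing (Z.presheaf.stalk z) ω' := by
  obtain ⟨U, hU, hzU, -⟩ := exists_isAffineOpen_mem_and_subset (x := z) (U := ⊤) trivial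
  letI : Algebra R Γ(Z, U) := (q.appLE ⊤ U le_top |>.hom.comp (Scheme.ΓSpecIso R).inv.hom).toAlgebra
  haveI : Algebra.FiniteType R Γ(Z, U) := by
    have h := q.finiteType_appLE (isAffineOpen_top _) hU le_top
    exact h.comp (RingHom.FiniteType.of_surjective _
      (ConcreteCategory.bijective_of_isIso (Scheme.ΓSpecIso R).inv).2)
  letI := Z.presheaf.algebra_section_stalk ⟨z, hzU⟩
  haveI := hU.isLocalization_stalk ⟨z, hzU⟩
  letI : Algebra R (Z.presheaf.stalk z) :=
    ((algebraMap Γ(Z, U) (Z.presheaf.stalk z)).comp (algebraMap R Γ(Z, U))).toAlgebra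
  haveI : IsScalarTower R Γ(Z, U) (Z.presheaf.stalk z) := IsScalarTower.of_algebraMap_eq' rfl
  haveI : Algebra.EssFiniteType Γ(Z, U) (Z.presheaf.stalk z) :=
    Algebra.EssFiniteType.of_isLocalization _ (hU.primeIdealOf ⟨z, hzU⟩).asIdeal.primeCompl
  haveI : Algebra.EssFiniteType R (Z.presheaf.stalk z) := Algebra.EssFiniteType.comp R Γ(Z, U) _
  exact KFlatLib.exists_isDualizing_of_essFiniteType hω (Z.presheaf.stalk z)

/-- Rational surface singularities stay rational on modifications. -/
theorem isRationalSing_above {Z Y : Scheme.{u}} [IsIntegral Z] [IsLocallyNoetherian Z] [IsIntegral Y] (g : Y ⟶ Z)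
    [LocallyOfFiniteType g] (hbir : IsIso (g.stalkMap (genericPoint Y))) (y : Y)
    (hd : ringKrullDim (Y.presheaf.stalk y) = 2) [IsIntegrallyClosed (Y.presheaf.stalk y)]
    [IsIntegrallyClosed (Z.presheaf.stalk (g y))] (hZd : ringKrullDim (Z.presheaf.stalk (g y)) ≤ 2)
    (hN : CAlg.IsNagata (Z.presheaf.stalk (g y))) (hrat : Curv2.IsRationalSing (Z.presheaf.stalk (g y))) :
    Curv2.IsRationalSing (Y.presheaf.stalk y) := by
  let A := Z.presheaf.stalk (g y)
  have hdA : ringKrullDim A = 2 := le_antisymm hZd (hd ▸ NormSeq.dim_le g hbir y)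
  letI : Algebra A (Y.presheaf.stalk y) := (g.stalkMap y).hom.toAlgebra
  haveI : IsLocalHom (algebraMap A (Y.presheaf.stalk y)) := inferInstanceAs (IsLocalHom (g.stalkMap y).hom)
  haveI : Algebra.EssFiniteType A (Y.presheaf.stalk y) := LocallyOfFiniteType.stalkMap g y
  refine RatUp.isRationalSing_ext' A (Y.presheaf.stalk y) (NormSeq.finBir_of_isNagata hN) hdA hrat
    (SurfSeq.injective_stalk g hbir y) (fun b => ?_) hd
  obtain ⟨r, s, hs, h⟩ := SurfSeq.exists_fraction g hbir y b
  exact ⟨r, s, hs, by rw [mul_comm]; exact h⟩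

/-- Normal surfaces of finite type over an excellent ring with dualizing complex and with rational singularities
have resolutions. -/
theorem exists_resolution_of_rational {R : CommRingCat.{u}} (hexc : EGA4.IsExcellent R) {ω : Dual.D R}
    (hω : Dual.IsDualizing R ω) {Z : Scheme.{u}} [IsIntegral Z] (hZ : Nice Z) (q : Z ⟶ Spec R) [LocallyOfFiniteType q]
    (hrat : ∀ z : Z, ringKrullDim (Z.presheaf.stalk z) = 2 → Curv2.IsRationalSing (Z.presheaf.stalk z)) :
    ∃ (Y : Scheme.{u}) (g : Y ⟶ Z) (_ : IsIntegral Y), IsProper g ∧ IsIso (g.stalkMap (genericPoint Y)) ∧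
      Nice Y ∧ ∀ y : Y, IsRegularLocalRing (Y.presheaf.stalk y) := by
  haveI := hZ.noeth
  refine exists_resolution_of_local _ Z hZ (finite_singular hexc.2.2.2 hZ q) le_rfl (fun Y _ g _ hb hY y hd => ?_)
    fun z hz => ?_
  · haveI := (hY.normal y).2
    haveI := (hZ.normal (g y)).2
    exact isRationalSing_above g hb y hd (hZ.dim _) (isNagata_of_isExcellent (RatCompl.isExcellent_stalk hexc q (g y)))
      (hrat _ (le_antisymm (hZ.dim _) (hd ▸ NormSeq.dim_le g hb y)))
  · obtain ⟨-, hd⟩ := DoublePt.dim_of_singular hZ z hz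
    haveI := (hZ.normal z).1
    haveI := (hZ.normal z).2
    have hexcz := RatCompl.isExcellent_stalk hexc q z
    obtain ⟨ω', hω'⟩ := exists_dualizing_stalk hω q z
    obtain ⟨M, hP, hM, hreg⟩ := exists_resolution_local (T := Z.presheaf.stalk z) hexcz hd (hrat z hd) hω'
      ⟨GrLib8.HlvtNormal.isDomain_completion _ hexcz, RatCompl.isIntegrallyClosed_completion _ hexcz⟩
    exact ⟨M.Z, M.G, M.integral, hP, M.bir, hreg⟩

end Groth.Agent.SurfRes
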