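import Groth.Agent.SurfRes.Point

/-!
# Resolution of surfaces with resolvable singular points
-/

set_option autoImplicit false
set_option linter.style.haveILetI false
set_option linter.unusedSectionVars false
set_option backward.isDefEq.respectTransparency false
set_option backward.isDefEq.respectTransparency.types false
set_option maxHeartbeats 800000

universe u

open CategoryTheory CategoryTheory.Limits AlgebraicGeometry TopologicalSpace IsLocalRing
open Groth.Agent.NormSeq (Nice)

noncomputable section

namespace Groth.Agent.SurfRes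

/-- The local scheme at a point has a resolution. -/
def Resolvable {Z : Scheme.{u}} [IsIntegral Z] (z : Z) : Prop :=
  ∃ (X' : Scheme.{u}) (r : X' ⟶ Spec (Z.presheaf.stalk z)) (_ : IsIntegral X'), IsProper r ∧
    IsIso (r.stalkMap (genericPoint X')) ∧ ∀ w : X', IsRegularLocalRing (X'.presheaf.stalk w)

theorem Resolvable.of_isIso {Y Z : Scheme.{u}} [IsIntegral Y] [IsIntegral Z] (g : Y ⟶ Z) (y : Y)
    [IsIso (g.stalkMap y)] (h : Resolvable (g y)) : Resolvable y := by
  obtain ⟨X', r, hint, hP, hb, hreg⟩ := h
  haveI := hint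
  haveI := hP
  haveI := hb
  refine ⟨X', r ≫ Spec.map (inv (g.stalkMap y)), hint, inferInstance, ?_, hreg⟩
  rw [Scheme.Hom.stalkMap_comp]
  infer_instance

/-- A normal surface with finitely many singular points, all resolvable, has a resolution if its modifications
have rational singularities. -/
theorem exists_resolution_of_local (n : ℕ) : ∀ (Z : Scheme.{u}) [IsIntegral Z], Nice Z →
    {z : Z | ¬ IsRegularLocalRing (Z.presheaf.stalk z)}.Finite →
    {z : Z | ¬ IsRegularLocalRing (Z.presheaf.stalk z)}.ncard ≤ n →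
    (∀ (Y : Scheme.{u}) [IsIntegral Y] (g : Y ⟶ Z) [IsProper g], IsIso (g.stalkMap (genericPoint Y)) →
      Nice Y → ∀ y : Y, ringKrullDim (Y.presheaf.stalk y) = 2 → Curv2.IsRationalSing (Y.presheaf.stalk y)) →
    (∀ z : Z, ¬ IsRegularLocalRing (Z.presheaf.stalk z) → Resolvable z) →
    ∃ (Y : Scheme.{u}) (g : Y ⟶ Z) (_ : IsIntegral Y), IsProper g ∧ IsIso (g.stalkMap (genericPoint Y)) ∧
      Nice Y ∧ ∀ y : Y, IsRegularLocalRing (Y.presheaf.stalk y) := by
  induction n using Nat.strong_induction_on with
  | _ n ih =>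
    intro Z _ hZ hfin hn hrat hloc
    by_cases hall : ∀ z : Z, IsRegularLocalRing (Z.presheaf.stalk z)
    · exact ⟨Z, 𝟙 Z, inferInstance, inferInstance, inferInstance, hZ, hall⟩
    push Not at hall
    obtain ⟨x, hx⟩ := hall
    haveI := hZ.noeth
    obtain ⟨hxc, -⟩ := DoublePt.dim_of_singular hZ x hx
    obtain ⟨X', r, hint, hP, hrbir, hreg⟩ := hloc x hx
    haveI := hint
    haveI := hP
    obtain ⟨Y', g', hint', hP', hbir', hY', hoff, hregx⟩ :=
      resolve_point r hreg hrbir hxc (fun Y _ g _ hb hY y _ hd => hrat Y g hb hY y hd) hZ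
    haveI := hint'
    haveI := hP'
    let S := {z : Z | ¬ IsRegularLocalRing (Z.presheaf.stalk z)}
    let S' := {y : Y' | ¬ IsRegularLocalRing (Y'.presheaf.stalk y)}
    have himg : ∀ y ∈ S', g' y ∈ S \ {x} := by
      intro y hy
      have hne : g' y ≠ x := fun h => hy (hregx y h)
      haveI := hoff y hne
      refine ⟨fun h => hy ?_, hne⟩
      haveI := h
      exact IsRegularLocalRing.of_ringEquiv (asIso (g'.stalkMap y)).commRingCatIsoToRingEquiv
    have hinj : Set.InjOn g' S' := fun a _ b hb he =>
      SurfSeq.eq_of_isIso g' hbir' (z := b) (x := a) he.symm (hoff b (himg b hb).2)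
    have hfin' : S'.Finite := ((hfin.subset Set.diff_subset).subset (Set.image_subset_iff.2 himg)).of_finite_image hinj
    have hlt : S'.ncard < n := by
      refine lt_of_le_of_lt ?_ (lt_of_lt_of_le (Set.ncard_diff_singleton_lt_of_mem (s := S) hx hfin) hn)
      exact Set.ncard_le_ncard_of_injOn _ himg hinj (hfin.subset Set.diff_subset)
    obtain ⟨Y, g, hintY, hPY, hbirY, hY, hregY⟩ := ih S'.ncard hlt Y' hY' hfin' le_rfl
      (fun Y _ g _ hb hY y hd => hrat Y (g ≫ g') (NormSeq.isIso_stalkMap_comp g g' hb hbir') hY y hd)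
      (fun y hy => by
        haveI := hoff y (himg y hy).2
        exact Resolvable.of_isIso g' y (hloc _ (himg y hy).1))
    haveI := hintY
    haveI := hPY
    exact ⟨Y, g ≫ g', inferInstance, inferInstance, NormSeq.isIso_stalkMap_comp g g' hbirY hbir', hY, hregY⟩

end Groth.Agent.SurfRes
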