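import Groth.Agent.SurfRes.Formal
import Groth.Agent.SurfRes.Glue
import Groth.Agent.S1634
import Groth.Agent.S7376

/-!
# Resolution of normal surfaces with normal completed singular points
-/

set_option autoImplicit false
set_option linter.style.haveILetI false
set_option linter.unusedSectionVars false
set_option backward.isDefEq.respectTransparency false
set_option backward.isDefEq.respectTransparency.types false
set_option maxHeartbeats 800000

universe u

open CategoryTheory CategoryTheory.Limits AlgebraicGeometry TopologicalSpace IsLocalRing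
open Groth.Agent.NormSeq (Nice)

noncomputable section

namespace Groth.Agent.SurfRes

/-- A closed point with normal completion can be resolved. -/
theorem resolve_point_cpl {Z : Scheme.{u}} [IsIntegral Z] (hZ : Nice Z) {x : Z} (hx : IsClosed ({x} : Set Z))
    (hd : ringKrullDim (Z.presheaf.stalk x) = 2)
    (hc : IsDomain (Curv2.cpl (Z.presheaf.stalk x)) ∧ IsIntegrallyClosed (Curv2.cpl (Z.presheaf.stalk x))) :
    ∃ M : PointMod Z x, ∀ y, M.g y = x → IsRegularLocalRing (M.Y.presheaf.stalk y) := by
  haveI := hZ.noeth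
  haveI := hc.1
  haveI := hc.2
  let A := Z.presheaf.stalk x
  haveI : IsLocalRing (EGA4.Cpl A) := FlatLoc6.isLocalRing_cpl A
  haveI : IsLocalRing (Curv2.cpl A) := FlatLoc6.isLocalRing_cpl A
  haveI : IsNoetherianRing (Curv2.cpl A) := FlatLoc6.isNoetherianRing_cpl A
  haveI : IsAdicComplete (maximalIdeal (Curv2.cpl A)) (Curv2.cpl A) := CplFib6.isAdicComplete_cpl A
  haveI : Module.FaithfullyFlat A (Curv2.cpl A) := FlatLoc6.faithfullyFlat_cpl A
  have hdC : ringKrullDim (Curv2.cpl A) = 2 := (RatCompl.dim_cpl A).trans hd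
  have E : Ext Z x (Curv2.cpl A) := ⟨RatCompl.cpl_maxMap A, RatCompl.cpl_resLift A, hx, hd, hdC⟩
  obtain ⟨X, f, hP, hint, hreg, hiso⟩ := S1634.result (Curv2.cpl A) hdC
  obtain ⟨Xn, r, hseq, -, hregn⟩ := S7376.result (Curv2.cpl A) hdC ⟨X, f, hP, hint, hiso, hreg⟩
  exact resolve_point_of_seq hZ E hseq hregn

/-- Nice schemes whose finitely many singular points have normal completions have resolutions. -/
theorem exists_resolution_cpl (n : ℕ) : ∀ (Z : Scheme.{u}) [IsIntegral Z], Nice Z →
    {z : Z | ¬ IsRegularLocalRing (Z.presheaf.stalk z)}.Finite →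
    {z : Z | ¬ IsRegularLocalRing (Z.presheaf.stalk z)}.ncard ≤ n →
    (∀ z : Z, ¬ IsRegularLocalRing (Z.presheaf.stalk z) →
      IsDomain (Curv2.cpl (Z.presheaf.stalk z)) ∧ IsIntegrallyClosed (Curv2.cpl (Z.presheaf.stalk z))) →
    ∃ (Y : Scheme.{u}) (g : Y ⟶ Z) (_ : IsIntegral Y), IsProper g ∧ IsIso (g.stalkMap (genericPoint Y)) ∧
      Nice Y ∧ ∀ y : Y, IsRegularLocalRing (Y.presheaf.stalk y) := by
  induction n using Nat.strong_induction_on with
  | _ n ih =>
    intro Z _ hZ hfin hn hc
    by_cases hall : ∀ z : Z, IsRegularLocalRing (Z.presheaf.stalk z)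
    · exact ⟨Z, 𝟙 Z, inferInstance, inferInstance, inferInstance, hZ, hall⟩
    push Not at hall
    obtain ⟨x, hx⟩ := hall
    haveI := hZ.noeth
    obtain ⟨hxc, hd⟩ := DoublePt.dim_of_singular hZ x hx
    obtain ⟨M, hM⟩ := resolve_point_cpl hZ hxc hd (hc x hx)
    haveI := M.nice.noeth
    let S := {z : Z | ¬ IsRegularLocalRing (Z.presheaf.stalk z)}
    let S' := {y : M.Y | ¬ IsRegularLocalRing (M.Y.presheaf.stalk y)}
    have himg : ∀ y ∈ S', M.g y ∈ S \ {x} := by
      intro y hy
      have hne : M.g y ≠ x := fun h => hy (hM y h)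
      haveI := M.off y hne
      refine ⟨fun h => hy ?_, hne⟩
      haveI := h
      exact IsRegularLocalRing.of_ringEquiv (asIso (M.g.stalkMap y)).commRingCatIsoToRingEquiv
    have hinj : Set.InjOn M.g S' := fun a _ b hb he =>
      SurfSeq.eq_of_isIso M.g M.bir (z := b) (x := a) he.symm (M.off b (himg b hb).2)
    have hfin' : S'.Finite := ((hfin.subset Set.diff_subset).subset (Set.image_subset_iff.2 himg)).of_finite_image hinj
    have hlt : S'.ncard < n := by
      refine lt_of_le_of_lt ?_ (lt_of_lt_of_le (Set.ncard_diff_singleton_lt_of_mem (s := S) hx hfin) hn)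
      exact Set.ncard_le_ncard_of_injOn _ himg hinj (hfin.subset Set.diff_subset)
    obtain ⟨Y, g, hintY, hPY, hbirY, hY, hregY⟩ := ih S'.ncard hlt M.Y M.nice hfin' le_rfl fun y hy => by
      haveI := M.off y (himg y hy).2
      exact DoublePt.cpl_normal_of_iso (M.g.stalkMap y) (hc _ (himg y hy).1)
    haveI := hintY
    haveI := hPY
    exact ⟨Y, g ≫ M.g, inferInstance, inferInstance, NormSeq.isIso_stalkMap_comp g M.g hbirY M.bir, hY, hregY⟩

end Groth.Agent.SurfRes
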