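import Groth.Agent.RegRes.Seq

/-!
# Base change of modifications to local schemes
-/

set_option autoImplicit false
set_option linter.style.haveILetI false
set_option linter.unusedSectionVars false
set_option backward.isDefEq.respectTransparency false
set_option backward.isDefEq.respectTransparency.types false
set_option maxHeartbeats 800000

universe u

open CategoryTheory CategoryTheory.Limits AlgebraicGeometry TopologicalSpace IsLocalRing
open Groth.Agent.H23.StalkIdeal
open Groth.Agent.NormSeq (Nice)
open Groth.Agent.PointBlow (pt locTo locB)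

noncomputable section

namespace Groth.Agent.SurfRes

variable {Z Y : Scheme.{u}} [IsIntegral Z] [IsLocallyNoetherian Z] [IsIntegral Y] (g : Y ⟶ Z) [IsProper g] (x : Z)

theorem isIso_locTo (p : (pullback g (Z.fromSpecStalk x) : Scheme.{u})) : IsIso ((locTo g x).stalkMap p) :=
  haveI : Flat (Z.fromSpecStalk x) := H23.RatExtend.flat_fromSpecStalk Z x
  H23.FFDescent.isIso_stalkMap_of_flat_of_isPreimmersion (locTo g x) p

variable {g} {x}

theorem dim_locTo (p : (pullback g (Z.fromSpecStalk x) : Scheme.{u})) :
    ringKrullDim ((pullback g (Z.fromSpecStalk x)).presheaf.stalk p) = ringKrullDim (Y.presheaf.stalk (locTo g x p)) :=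
  haveI := isIso_locTo g x p
  (ringKrullDim_eq_of_ringEquiv (asIso ((locTo g x).stalkMap p)).commRingCatIsoToRingEquiv).symm

theorem exists_locTo {y : Y} (hy : g y ⤳ x) :
    ∃ p : (pullback g (Z.fromSpecStalk x) : Scheme.{u}), locTo g x p = y := by
  obtain ⟨q, hq⟩ : g y ∈ Set.range (Z.fromSpecStalk x) := by
    rw [Scheme.range_fromSpecStalk]; exact hy
  obtain ⟨p, h1, -⟩ := Scheme.Pullback.exists_preimage_pullback (f := g) (g := Z.fromSpecStalk x) y q hq.symm
  exact ⟨p, h1⟩

/-- The base change of a modification to a local scheme is a modification. -/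
theorem exists_integral_loc (hbir : IsIso (g.stalkMap (genericPoint Y))) :
    ∃ _ : IsIntegral (pullback g (Z.fromSpecStalk x)),
      locTo g x (genericPoint (pullback g (Z.fromSpecStalk x) : Scheme.{u})) = genericPoint Y ∧
      IsIso ((locB g x).stalkMap (genericPoint (pullback g (Z.fromSpecStalk x) : Scheme.{u}))) := by
  let P := pullback g (Z.fromSpecStalk x)
  haveI : Flat (Z.fromSpecStalk x) := H23.RatExtend.flat_fromSpecStalk Z x
  have hstk := isIso_locTo g x
  haveI : IsReduced P := by
    haveI : ∀ p : P, _root_.IsReduced (P.presheaf.stalk p) := fun p => by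
      haveI := hstk p
      let e := (asIso ((locTo g x).stalkMap p)).commRingCatIsoToRingEquiv.symm
      exact isReduced_of_injective e e.injective
    exact isReduced_of_isReduced_stalk P
  obtain ⟨η, hη⟩ := exists_locTo (g := g) (x := x) (y := genericPoint Y)
    (by rw [SurfSeq.map_generic g hbir]; exact genericPoint_specializes x)
  have hgenη : IsGenericPoint η (Set.univ : Set P) := by
    refine isGenericPoint_def.2 (Set.eq_univ_of_forall fun p => ?_)
    refine specializes_iff_mem_closure.1 ((locTo g x).isEmbedding.isInducing.specializes_iff.1 ?_)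
    rw [hη]; exact genericPoint_specializes _
  haveI : Nonempty P := ⟨η⟩
  haveI : IrreducibleSpace P := (irreducibleSpace_def P).2
    (show IsIrreducible (Set.univ : Set P) from hgenη.def ▸ isIrreducible_singleton.closure)
  haveI : IsIntegral P := isIntegral_of_irreducibleSpace_of_isReduced P
  have hgP : locTo g x (genericPoint P) = genericPoint Y := by
    rw [(genericPoint_spec P).eq hgenη, hη]
  refine ⟨inferInstance, hgP, ?_⟩
  haveI := hstk (genericPoint P)
  haveI : IsIso (g.stalkMap (locTo g x (genericPoint P))) := by rw [hgP]; exact hbir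
  haveI : IsIso ((locTo g x ≫ g).stalkMap (genericPoint P)) := by rw [Scheme.Hom.stalkMap_comp]; infer_instance
  haveI : IsIso ((locB g x ≫ Z.fromSpecStalk x).stalkMap (genericPoint P)) := by
    rw [← pullback.condition]; infer_instance
  haveI := H23.FFDescent.isIso_stalkMap_of_flat_of_isPreimmersion (Z.fromSpecStalk x) (locB g x (genericPoint P))
  have e := Scheme.Hom.stalkMap_comp (locB g x) (Z.fromSpecStalk x) (genericPoint P)
  haveI : IsIso ((Z.fromSpecStalk x).stalkMap (locB g x (genericPoint P)) ≫ (locB g x).stalkMap (genericPoint P)) :=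
    e ▸ inferInstance
  exact IsIso.of_isIso_comp_left ((Z.fromSpecStalk x).stalkMap (locB g x (genericPoint P))) _

/-- Closed points of a scheme give closed points of its local base change. -/
theorem isClosed_singleton_loc {p : (pullback g (Z.fromSpecStalk x) : Scheme.{u})}
    (hp : IsClosed ({locTo g x p} : Set Y)) : IsClosed ({p} : Set (pullback g (Z.fromSpecStalk x) : Scheme.{u})) := by
  have h : (locTo g x) ⁻¹' {locTo g x p} = {p} :=
    Set.eq_singleton_iff_unique_mem.2 ⟨rfl, fun w hw => (locTo g x).isEmbedding.injective hw⟩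
  exact h ▸ hp.preimage (locTo g x).continuous

/-- Point ideals restrict to point ideals. -/
theorem pt_comap_locTo {p : (pullback g (Z.fromSpecStalk x) : Scheme.{u})} (hz : IsClosed ({locTo g x p} : Set Y))
    (hp : IsClosed ({p} : Set (pullback g (Z.fromSpecStalk x) : Scheme.{u}))) :
    (pt hz).comap (locTo g x) = pt hp := by
  refine ext_sI fun w => ?_
  by_cases hw : w = p
  · subst hw
    haveI := isIso_locTo g x w
    rw [sI_comap, NormSeq.sI_pt hz, NormSeq.sI_pt hp]
    exact IsLocalRing.map_ringEquiv_maximalIdeal (asIso ((locTo g x).stalkMap w)).commRingCatIsoToRingEquiv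
  · rw [PointBlow.sI_eq_top, PointBlow.sI_eq_top]
    · exact fun hmem => hw ((PointBlow.mem_support_pt hp w).1 hmem)
    · exact fun hmem => hw ((locTo g x).isEmbedding.injective ((PointBlow.mem_support_exc hz w).1 hmem))

end Groth.Agent.SurfRes
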