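import Groth.Agent.SurfRes.Completion
import Groth.Agent.SurfRes.Basic
import Groth.Agent.RegRes.Global
import Groth.Agent.NormCurve.Delta
import Groth.Agent.R1Push.Maximal
import Groth.Agent.GrLib8.HlvtNormal
import Groth.Agent.S9708

/-!
# Projective resolution of excellent surfaces
-/

set_option autoImplicit false
set_option linter.style.haveILetI false
set_option linter.unusedSectionVars false
set_option backward.isDefEq.respectTransparency false
set_option backward.isDefEq.respectTransparency.types false
set_option maxHeartbeats 800000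

universe u

open CategoryTheory CategoryTheory.Limits AlgebraicGeometry TopologicalSpace IsLocalRing
open Groth.Agent.NormSeq (Nice)

noncomputable section

namespace Groth.Agent.SurfRes

variable {X S : Scheme.{u}} (p : X ⟶ S) [LocallyOfFiniteType p]
  (hexc : ∀ U : S.affineOpens, EGA4.IsExcellent Γ(S, U))
include p hexc

/-- The regular locus over an excellent base is open. -/
theorem isOpen_regular_of_excellent : IsOpen {x : X | IsRegularLocalRing (X.presheaf.stalk x)} := by
  refine isOpen_iff_forall_mem_open.2 fun x hx => ?_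
  obtain ⟨V, hV, hxV, -⟩ := exists_isAffineOpen_mem_and_subset (x := p x) (U := ⊤) trivial
  let j := (p ⁻¹ᵁ V).ι
  have h := isOpen_regular (hexc ⟨V, hV⟩).2.2.2
    (X := (p ⁻¹ᵁ V : Scheme.{u})) (p ∣_ V ≫ hV.isoSpec.hom)
  refine ⟨j '' _, ?_, j.isOpenEmbedding.isOpenMap _ h, ⟨x, hxV⟩, ?_, rfl⟩
  · rintro _ ⟨w, hw, rfl⟩
    haveI : IsRegularLocalRing ((p ⁻¹ᵁ V : Scheme.{u}).presheaf.stalk w) := hw
    exact IsRegularLocalRing.of_ringEquiv (asIso (j.stalkMap w)).commRingCatIsoToRingEquiv.symm
  · haveI : IsRegularLocalRing (X.presheaf.stalk (j ⟨x, hxV⟩)) := hx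
    exact IsRegularLocalRing.of_ringEquiv (asIso (j.stalkMap (⟨x, hxV⟩ : (p ⁻¹ᵁ V : Scheme.{u})))).commRingCatIsoToRingEquiv

/-- Local rings over an excellent base are excellent. -/
theorem isExcellent_stalk_of_excellent (x : X) : EGA4.IsExcellent (X.presheaf.stalk x) := by
  obtain ⟨V, hV, hxV, -⟩ := exists_isAffineOpen_mem_and_subset (x := p x) (U := ⊤) trivial
  let j := (p ⁻¹ᵁ V).ι
  let w : (p ⁻¹ᵁ V : Scheme.{u}) := ⟨x, hxV⟩
  let A := (p ⁻¹ᵁ V : Scheme.{u}).presheaf.stalk w
  have h : EGA4.IsExcellent A := RatCompl.isExcellent_stalk (hexc ⟨V, hV⟩) (p ∣_ V ≫ hV.isoSpec.hom) w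
  let e : A ≃+* X.presheaf.stalk x := (asIso (j.stalkMap w)).commRingCatIsoToRingEquiv.symm
  letI := (e : A →+* X.presheaf.stalk x).toAlgebra
  haveI : Algebra.FiniteType A (X.presheaf.stalk x) := RingHom.FiniteType.of_surjective _ e.surjective
  exact CplFib6.isExcellent_of_finiteType h (X.presheaf.stalk x)

/-- Affine opens over an excellent base are Nagata. -/
theorem isNagata_of_excellent (U : X.affineOpens) : CAlg.IsNagata Γ(X, U.1) :=
  AlgSpDec.NagataLocal.isNagata_affineOpen p (fun V : S.affineOpens => V.1) (iSup_affineOpens_eq_top S)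
    (fun V => V.2) (fun V => isNagata_of_isExcellent (hexc V)) U.1 U.2

/-- An excellent surface has a projective resolution. -/
theorem exists_projective_resolution [IsIntegral X] [IsNoetherian X] [X.IsSeparated]
    (hdim : topologicalKrullDim X ≤ 2) :
    ∃ (X₁ : Scheme.{u}) (φ : X₁ ⟶ X), IsIntegral X₁ ∧ (∀ x : X₁, IsRegularLocalRing (X₁.presheaf.stalk x)) ∧
      RelProj.IsProjective φ ∧ IsProper φ ∧ ∃ V : X.Opens, (V : Set X).Nonempty ∧ IsIso (φ ∣_ V) := by
  have hN := isNagata_of_excellent p hexc
  haveI : QuasiCompact (X.fromSpecStalk (genericPoint X)) := inferInstance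
  haveI : IsFinite (Curv2.normalizationι X) := NormCurve.isFinite_normalizationι X hN
  haveI := Synt29.isIntegral_normalization X
  obtain ⟨hνgen, hνbir, -⟩ := Synt29.normalization_generic X
  haveI : IsLocallyNoetherian (Curv2.normalization X) :=
    LocallyOfFiniteType.isLocallyNoetherian (Curv2.normalizationι X)
  haveI : CompactSpace (Curv2.normalization X) :=
    QuasiCompact.compactSpace_of_compactSpace (Curv2.normalizationι X)
  haveI : IsNoetherian (Curv2.normalization X) := {}
  have hn := NormCurve.isNormalScheme_normalization X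
  have hN' : Nice (Curv2.normalization X) := NormSeq.Nice.of_nagata inferInstance inferInstance hn
    (isNagata_of_excellent (Curv2.normalizationι X ≫ p) hexc)
    fun z => (NormSeq.dim_le (Curv2.normalizationι X) hνbir z).trans ((SchTop.ringKrullDim_stalk_le _).trans hdim)
  have hs : {z : Curv2.normalization X | ¬ IsRegularLocalRing ((Curv2.normalization X).presheaf.stalk z)}.Finite :=
    PointBlow.finite_of_closed_points (isOpen_regular_of_excellent (Curv2.normalizationι X ≫ p) hexc).isClosed_compl
      fun z hz => (DoublePt.dim_of_singular hN' z hz).1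
  obtain ⟨Y, g, hint, hP, hbir, -, hreg⟩ := exists_resolution_cpl _ _ hN' hs le_rfl fun z _ => by
    haveI := (hn z).1
    haveI := (hn z).2
    have he := isExcellent_stalk_of_excellent (Curv2.normalizationι X ≫ p) hexc z
    exact ⟨GrLib8.HlvtNormal.isDomain_completion _ he, RatCompl.isIntegrallyClosed_completion _ he⟩
  haveI := hint
  haveI := hP
  obtain ⟨Xn, r, hseq, hrP, hregn⟩ := RegRes.exists_resolution hN' g hbir hreg
  haveI := hrP
  obtain ⟨hintn, -, -, hproj⟩ := R1Push.seq_nice hseq hN'
  obtain ⟨-, hV⟩ := RegRes.isResolution_of_seq r hseq inferInstance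
  exact ⟨Xn, r ≫ Curv2.normalizationι X, hintn, hregn,
    S9708.result r (Curv2.normalizationι X) hproj (ProjCl17.isProjective_of_isFinite _), inferInstance, hV⟩

end Groth.Agent.SurfRes
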