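import Groth.Agent.SurfRes.Completion
import Groth.Agent.RegRes.Global
import Groth.Agent.AltRegular.Basic
import Groth.Agent.CplNormFinite.Normal
import Groth.Agent.FormCat.Unibranch
import Groth.Agent.H23.CorrLoci
import Groth.Agent.S9346

/-!
# Surfaces with regular alterations
-/

set_option autoImplicit false
set_option linter.style.haveILetI false
set_option linter.unusedSectionVars false
set_option backward.isDefEq.respectTransparency false
set_option backward.isDefEq.respectTransparency.types false
set_option maxHeartbeats 800000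

universe u

open CategoryTheory CategoryTheory.Limits AlgebraicGeometry TopologicalSpace IsLocalRing
open Groth.Agent.NormSeq (Nice FinBir)
open Groth.Agent.PointBlow (locTo locB)

noncomputable section

namespace Groth.Agent.SurfRes

variable {X Y : Scheme.{u}} [IsIntegral X] [IsIntegral Y] (g : X ⟶ Y)

theorem map_generic_of_dominant [IsDominant g] : g (genericPoint X) = genericPoint Y := by
  have h : IsGenericPoint (g (genericPoint X)) (Set.univ : Set Y) := by
    have h1 := (genericPoint_spec X).image g.continuous
    rw [Set.image_univ, g.denseRange.closure_range] at h1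
    exact h1
  exact h.eq (genericPoint_spec Y)

theorem isDominant_of_map_generic (h : g (genericPoint X) = genericPoint Y) : IsDominant g :=
  ⟨Dense.mono (Set.singleton_subset_iff.2 ⟨_, h⟩) (dense_iff_closure_eq.2 (genericPoint_spec Y).def)⟩

/-- A scheme with a regular proper dominant cover has finite normalization. -/
theorem isFinite_normalization_of_alteration [IsLocallyNoetherian Y] [IsProper g] [IsDominant g]
    (hreg : ∀ x : X, IsRegularLocalRing (X.presheaf.stalk x))
    [QuasiCompact (Y.fromSpecStalk (genericPoint Y))] [QuasiSeparated (Y.fromSpecStalk (genericPoint Y))] :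
    IsFinite (Curv2.normalizationι Y) := by
  refine CplNormFinite.isFinite_normalizationι_of_forall fun U hne hU => ?_
  haveI : IsNoetherianRing Γ(Y, U) := IsLocallyNoetherian.component_noetherian ⟨U, hU⟩
  haveI : IsDomain Γ(Y, U) := inferInstance
  obtain ⟨⟨v, hv⟩⟩ := hne
  have hgU : genericPoint X ∈ g ⁻¹ᵁ U := by
    show g (genericPoint X) ∈ U
    rw [map_generic_of_dominant g]
    exact (genericPoint_specializes v).mem_open U.isOpen hv
  haveI : Nonempty (g ⁻¹ᵁ U) := ⟨⟨_, hgU⟩⟩
  haveI : IsIntegral (g ⁻¹ᵁ U : Scheme.{u}) := isIntegral_of_isOpenImmersion (g ⁻¹ᵁ U).ι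
  haveI : Nonempty (U : Scheme.{u}) := ⟨⟨v, hv⟩⟩
  haveI : IsIntegral (U : Scheme.{u}) := isIntegral_of_isOpenImmersion U.ι
  haveI : IsDominant (g ∣_ U) := isDominant_of_map_generic _ (U.ι.isOpenEmbedding.injective (by
    rw [← Scheme.Hom.comp_apply, morphismRestrict_ι, Scheme.Hom.comp_apply,
      genericPoint_eq_of_isOpenImmersion, map_generic_of_dominant g, genericPoint_eq_of_isOpenImmersion]))
  let f : (g ⁻¹ᵁ U : Scheme.{u}) ⟶ Spec (CommRingCat.of Γ(Y, U)) := g ∣_ U ≫ hU.isoSpec.hom
  haveI : IsDominant f := inferInstanceAs (IsDominant (g ∣_ U ≫ hU.isoSpec.hom))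
  have hN : CAlg.IsN1 Γ(Y, U) := AltRegular.isN1 Γ(Y, U) f fun w => by
    haveI := hreg ((g ⁻¹ᵁ U).ι w)
    exact IsRegularLocalRing.of_ringEquiv (asIso ((g ⁻¹ᵁ U).ι.stalkMap w)).commRingCatIsoToRingEquiv
  haveI := functionField_isFractionRing_of_isAffineOpen Y U hU
  haveI : Module.Finite Γ(Y, U) (integralClosure Γ(Y, U) (FractionRing Γ(Y, U))) := hN
  exact Module.Finite.equiv
    (AlgEquiv.mapIntegralClosure (FractionRing.algEquiv Γ(Y, U) Y.functionField)).toLinearEquiv

/-- Over a normal scheme the regular locus contains an open set with all points of dimension at most one. -/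
theorem exists_open_regular [IsLocallyNoetherian Y] [IsProper g] [IsDominant g] (hY : Pi1.IsNormalScheme Y)
    (hreg : ∀ x : X, IsRegularLocalRing (X.presheaf.stalk x)) :
    ∃ W : Y.Opens, (∀ y ∈ W, IsRegularLocalRing (Y.presheaf.stalk y)) ∧
      ∀ y : Y, ringKrullDim (Y.presheaf.stalk y) ≤ 1 → y ∈ W := by
  haveI : IsLocallyNoetherian X := LocallyOfFiniteType.isLocallyNoetherian g
  obtain ⟨hop, -⟩ := H23.CorrLoci.isOpen_flatFibre_and_nonempty g g.isClosedMap
  refine ⟨⟨_, hop⟩, fun y hy => ?_, fun y hy z hz => ?_⟩
  · obtain ⟨z, rfl⟩ : y ∈ Set.range g := by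
      rw [← g.isClosedMap.isClosed_range.closure_eq, g.denseRange.closure_range]
      trivial
    letI := (g.stalkMap z).hom.toAlgebra
    haveI : Module.Flat (Y.presheaf.stalk (g z)) (X.presheaf.stalk z) := hy z rfl
    haveI : IsLocalHom (algebraMap (Y.presheaf.stalk (g z)) (X.presheaf.stalk z)) :=
      inferInstanceAs (IsLocalHom (g.stalkMap z).hom)
    haveI := hreg z
    exact RegLoc6.isRegularLocalRing_of_flat (A := Y.presheaf.stalk (g z)) (B := X.presheaf.stalk z)
  · subst hz
    haveI := (hY (g z)).1
    haveI := (hY (g z)).2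
    haveI := RatCompl.valuationRing_of_dim_le_one (Y.presheaf.stalk (g z)) hy
    letI := (g.stalkMap z).hom.toAlgebra
    show Module.Flat (Y.presheaf.stalk (g z)) (X.presheaf.stalk z)
    rw [Module.Flat.flat_iff_torsion_eq_bot_of_isBezout, ← Submodule.isTorsionFree_iff_torsion_eq_bot]
    refine Module.isTorsionFree_iff_smul_eq_zero.2 fun a b h => ?_
    rcases mul_eq_zero.1 (show g.stalkMap z a * b = 0 from h) with h' | h'
    · exact Or.inl (S9346.stalkMap_injective g z (h'.trans (map_zero _).symm))
    · exact Or.inr h'

/-- Completed local rings of normal schemes with regular alterations are normal domains. -/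
theorem cpl_normal_of_alteration [IsLocallyNoetherian Y] [IsProper g] [IsDominant g] (hY : Pi1.IsNormalScheme Y)
    (hreg : ∀ x : X, IsRegularLocalRing (X.presheaf.stalk x)) (y : Y) :
    IsDomain (Curv2.cpl (Y.presheaf.stalk y)) ∧ IsIntegrallyClosed (Curv2.cpl (Y.presheaf.stalk y)) := by
  let P := pullback g (Y.fromSpecStalk y)
  haveI : IsReduced P := by
    haveI : ∀ p : P, _root_.IsReduced (P.presheaf.stalk p) := fun p => by
      haveI := isIso_locTo g y p
      let e := (asIso ((locTo g y).stalkMap p)).commRingCatIsoToRingEquiv.symm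
      exact isReduced_of_injective e e.injective
    exact isReduced_of_isReduced_stalk P
  obtain ⟨η, hη⟩ := exists_locTo (g := g) (x := y) (y := genericPoint X)
    (by rw [map_generic_of_dominant g]; exact genericPoint_specializes y)
  have hgenη : IsGenericPoint η (Set.univ : Set P) := by
    refine isGenericPoint_def.2 (Set.eq_univ_of_forall fun p => ?_)
    refine specializes_iff_mem_closure.1 ((locTo g y).isEmbedding.isInducing.specializes_iff.1 ?_)
    rw [hη]; exact genericPoint_specializes _
  haveI : Nonempty P := ⟨η⟩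
  haveI : IrreducibleSpace P := (irreducibleSpace_def P).2
    (show IsIrreducible (Set.univ : Set P) from hgenη.def ▸ isIrreducible_singleton.closure)
  haveI : IsIntegral P := isIntegral_of_irreducibleSpace_of_isReduced P
  let B := Y.presheaf.stalk y
  haveI := (hY y).1
  haveI := (hY y).2
  haveI : IsDominant (locB g y) := isDominant_of_map_generic _ ((Y.fromSpecStalk y).isEmbedding.injective (by
    rw [← Scheme.Hom.comp_apply, ← pullback.condition, Scheme.Hom.comp_apply,
      show genericPoint P = η from (genericPoint_spec P).eq hgenη,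
      show pullback.fst g (Y.fromSpecStalk y) η = genericPoint X from hη, map_generic_of_dominant g]
    obtain ⟨q, hq⟩ : genericPoint Y ∈ Set.range (Y.fromSpecStalk y) := by
      rw [Scheme.range_fromSpecStalk]; exact genericPoint_specializes y
    have h1 : Y.fromSpecStalk y (genericPoint (Spec B)) ⤳ genericPoint Y := by
      rw [← hq]
      exact (genericPoint_specializes q).map (Y.fromSpecStalk y).continuous
    exact ((genericPoint_specializes _).antisymm h1).eq))
  have hregP : ∀ p : P, IsRegularLocalRing (P.presheaf.stalk p) := fun p => by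
    haveI := isIso_locTo g y p
    haveI := hreg (locTo g y p)
    exact IsRegularLocalRing.of_ringEquiv (asIso ((locTo g y).stalkMap p)).commRingCatIsoToRingEquiv
  have hn := CplNormFinite.Alt.isNormalRing_completion_integralClosure (A := B) (locB g y) hregP
  let B' := integralClosure B (FractionRing B)
  have hsurj : Function.Surjective (algebraMap B B') := fun b => by
    obtain ⟨a, ha⟩ := IsIntegrallyClosed.isIntegral_iff.1 (b.2 : _root_.IsIntegral B (b : FractionRing B))
    exact ⟨a, Subtype.ext ha⟩
  have hinj : Function.Injective (algebraMap B B') := fun a b h =>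
    IsFractionRing.injective B (FractionRing B) (congrArg Subtype.val h)
  let e : B ≃+* B' := RingEquiv.ofBijective (algebraMap B B') ⟨hinj, hsurj⟩
  haveI : IsLocalRing B' := e.isLocalRing
  haveI : IsNoetherianRing B' := isNoetherianRing_of_ringEquiv B e
  have hI : (maximalIdeal B).map (algebraMap B B') = maximalIdeal B' := IsLocalRing.map_ringEquiv_maximalIdeal e
  have key : ∀ I : Ideal B', I = maximalIdeal B' → EGA4.IsNormalRing (AdicCompletion I B') →
      EGA4.IsNormalRing (Curv2.cpl B') := by
    rintro I rfl h
    exact h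
  have hn' : EGA4.IsNormalRing (Curv2.cpl B') := key _ hI hn
  haveI : IsLocalRing (Curv2.cpl B') := FlatLoc6.isLocalRing_cpl B'
  haveI : IsDomain (Curv2.cpl B') := FormCat.isDomain_of_isNormalRing_local _ hn'
  haveI : IsIntegrallyClosed (Curv2.cpl B') := IsIntegrallyClosed.of_localization_maximal fun p _ hp => (hn' p).2
  haveI : IsIso (e.symm.toCommRingCatIso.hom) := inferInstance
  exact DoublePt.cpl_normal_of_iso (S := CommRingCat.of B') e.symm.toCommRingCatIso.hom ⟨inferInstance, inferInstance⟩

end Groth.Agent.SurfRes
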