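import Groth.Agent.SurfRes.FormalBase

/-!
# Lifting normalized blow-up sequences from the completed local ring
-/

set_option autoImplicit false
set_option linter.style.haveILetI false
set_option linter.unusedSectionVars false
set_option backward.isDefEq.respectTransparency false
set_option backward.isDefEq.respectTransparency.types false
set_option maxHeartbeats 800000

universe u

open CategoryTheory CategoryTheory.Limits AlgebraicGeometry TopologicalSpace IsLocalRing
open Groth.Agent.H23.StalkIdeal
open Groth.Agent.NormSeq (Nice dim_le isIso_of_finite)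
open Groth.Agent.PointBlow (pt)
open Groth.Agent.RegRes (isIso_stalkMap_left)

noncomputable section

namespace Groth.Agent.SurfRes

/-- The normalized blow-up of a closed surface point. -/
theorem exists_blowUp_data {Z : Scheme.{u}} (hZ : Nice Z) [IsIntegral Z] {z : Z} (hz : IsClosed ({z} : Set Z))
    (hne : genericPoint Z ≠ z) :
    ∃ (Z' : Scheme.{u}) (b : Z' ⟶ Z) (_ : IsIntegral Z') (_ : IsProper b) (_ : BlowUp.IsBlowUp b (pt hz))
      (_ : IsFinite (Curv2.normalizationι Z')) (_ : IsIntegral (Curv2.normalization Z')),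
      Nice (Curv2.normalization Z') ∧
      IsIso ((Curv2.normalizationι Z' ≫ b).stalkMap (genericPoint (Curv2.normalization Z'))) ∧
      ∀ w, (Curv2.normalizationι Z' ≫ b) w ≠ z → IsIso ((Curv2.normalizationι Z' ≫ b).stalkMap w) := by
  haveI := hZ.noeth
  obtain ⟨Z', b, hb⟩ := BlowUpLib.exists_blowUp (C := pt hz)
  haveI := PointBlow.isProper_point hz hb
  obtain ⟨hint, -, hbiso⟩ :
      ∃ _ : IsIntegral Z', b (genericPoint Z') = genericPoint Z ∧ IsIso (b.stalkMap (genericPoint Z')) := by
    refine (Lib.BlowUpInt.isEmpty_or_birational hb).resolve_left fun hE => ?_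
    haveI := PointBlow.isIso_off hz hb
    exact hE.false ((inv (b ∣_ (⟨{z}ᶜ, hz.isOpen_compl⟩ : Z.Opens))) ⟨genericPoint Z, hne⟩).1
  haveI := hint
  haveI : IsLocallyNoetherian Z' := LocallyOfFiniteType.isLocallyNoetherian b
  haveI : IsFinite (Curv2.normalizationι Z') := hZ.fin Z' b hbiso
  have hnorm := NormCurve.isNormalScheme_normalization Z'
  haveI hint₁ : IsIntegral (Curv2.normalization Z') :=
    inferInstanceAs (IsIntegral (Z'.fromSpecStalk (genericPoint Z')).normalization)
  let ν := Curv2.normalizationι Z'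
  obtain ⟨V, hV, hiso⟩ := BMLib.exists_isIso_normalizationι Z'
  haveI := hiso
  haveI : IsOpenImmersion ((ν ⁻¹ᵁ V).ι ≫ ν) := by
    rw [← morphismRestrict_ι]; infer_instance
  have hW : ((ν ⁻¹ᵁ V) : Set ↥(Curv2.normalization Z')).Nonempty := by
    obtain ⟨v, hv⟩ := hV
    exact ⟨(inv (ν ∣_ V) ⟨v, hv⟩).1, (inv (ν ∣_ V) ⟨v, hv⟩).2⟩
  have hν : IsIso (ν.stalkMap (genericPoint (Curv2.normalization Z'))) :=
    PurBir.isIso_stalkMap_of_mem ν (PurBir.genericPoint_mem hW)
  haveI : IsLocallyNoetherian (Curv2.normalization Z') := LocallyOfFiniteType.isLocallyNoetherian (ν ≫ b)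
  haveI : CompactSpace (Curv2.normalization Z') := QuasiCompact.compactSpace_of_compactSpace (ν ≫ b)
  have hgen : IsIso ((ν ≫ b).stalkMap (genericPoint (Curv2.normalization Z'))) := by
    rw [Scheme.Hom.stalkMap_comp]
    haveI := hν
    haveI : IsIso (b.stalkMap (ν (genericPoint (Curv2.normalization Z')))) := by
      rw [SurfSeq.map_generic ν hν]; exact hbiso
    infer_instance
  refine ⟨Z', b, inferInstance, inferInstance, hb, inferInstance, hint₁,
    ⟨hint₁, {}, hnorm, hZ.fin_comp (ν ≫ b) hgen, fun w => (dim_le (ν ≫ b) hgen w).trans (hZ.dim _)⟩,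
    hgen, fun w hw => ?_⟩
  haveI hbw := PointBlow.isIso_stalkMap_off hz hb (z := ν w) hw
  have hic : IsIntegrallyClosed (Z'.presheaf.stalk (ν w)) := by
    haveI := (hZ.normal (b (ν w))).2
    exact IsIntegrallyClosed.of_equiv (asIso (b.stalkMap (ν w))).commRingCatIsoToRingEquiv
  haveI := isIso_of_finite ν hν w hic
  rw [Scheme.Hom.stalkMap_comp]
  infer_instance

/-- Point ideals move along isomorphisms. -/
theorem pt_comap_iso {W V : Scheme.{u}} (i : V ⟶ W) [IsIso i] {w : W} (hw : IsClosed ({w} : Set W)) {v : V}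
    (hv : IsClosed ({v} : Set V)) (hvw : i v = w) : (pt hw).comap i = pt hv := by
  subst hvw
  refine ext_sI fun a => ?_
  by_cases ha : a = v
  · subst ha
    rw [sI_comap, NormSeq.sI_pt hw, NormSeq.sI_pt hv]
    exact IsLocalRing.map_ringEquiv_maximalIdeal (asIso (i.stalkMap a)).commRingCatIsoToRingEquiv
  · rw [PointBlow.sI_eq_top, PointBlow.sI_eq_top]
    · exact fun hmem => ha ((PointBlow.mem_support_pt hv a).1 hmem)
    · exact fun hmem => ha (i.homeomorph.injective ((PointBlow.mem_support_exc hw a).1 hmem))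

variable {Z : Scheme.{u}} [IsIntegral Z] [IsLocallyNoetherian Z] {x : Z}
  {C : Type u} [CommRing C] [Algebra (Z.presheaf.stalk x) C] [Module.Flat (Z.presheaf.stalk x) C]
  [IsLocalRing C] [IsNoetherianRing C] [IsDomain C] [IsIntegrallyClosed C]

/-- A sequence of normalized point blow-ups over the extension comes from a modification. -/
theorem lift_seq (hZ : Nice Z) (E : Ext Z x C) {W X : Scheme.{u}} {r : W ⟶ X}
    (hr : Resolve.IsNormPtBlowupSeq r) :
    ∀ c : X ≅ Spec (CommRingCat.of C), ∃ (M : PointMod Z x) (e : W ≅ Q C M), e.hom ≫ toC C M = r ≫ c.hom := by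
  induction hr with
  | @iso Y' X' e₀ =>
    intro c
    let M₀ : PointMod Z x :=
      { Y := Z, g := 𝟙 Z, bir := inferInstance, nice := hZ, off := fun _ _ => inferInstance }
    haveI : IsIso (toC C M₀) := inferInstanceAs (IsIso (pullback.snd (𝟙 Z) (g₀ x C)))
    exact ⟨M₀, (e₀ ≪≫ c) ≪≫ (asIso (toC C M₀)).symm, by simp⟩
  | @step Z' W' X' hintZ' hqc hqs b r z hz hb hr ih =>
    intro c
    obtain ⟨M, e, he⟩ := ih c
    haveI := M.nice.noeth
    obtain ⟨hintQ, hnQ, hbirQ⟩ := integral_Q M E
    haveI := hintQ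
    haveI : IsLocallyNoetherian (Q C M) := LocallyOfFiniteType.isLocallyNoetherian (toC C M)
    haveI : Nonempty W' := ⟨z⟩
    haveI : IsIntegral W' := IsIntegral.of_isIso e.inv
    let q : Q C M := e.hom z
    have hqc : IsClosed ({q} : Set (Q C M)) := by
      have h := e.hom.homeomorph.isClosedMap _ hz
      rwa [Set.image_singleton] at h
    have hqcl : toC C M q = closedPoint C := by
      have h : IsClosed ((toC C M) '' {q}) := (toC C M).isClosedMap _ hqc
      rw [Set.image_singleton] at h
      exact ((specializes_closedPoint (toC C M q)).mem_closed h rfl).symm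
    have hy : IsClosed ({toY C M q} : Set M.Y) := isClosed_toY M E hqc hqcl
    have hne : genericPoint M.Y ≠ toY C M q := fun h => by
      have h1 := congrArg M.g h
      rw [over_x M E hqcl, SurfSeq.map_generic M.g M.bir] at h1
      subst h1
      have h2 := E.dimA
      rw [show ringKrullDim (Z.presheaf.stalk (genericPoint Z)) = 0 from
        ringKrullDim_eq_zero_of_field Z.functionField] at h2
      exact absurd h2 (by decide)
    obtain ⟨Y', by', hintY', hPy, hby, hfin, hintY₁, hY₁, hbir₁, hoff₁⟩ := exists_blowUp_data M.nice hy hne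
    haveI := hintY'
    haveI := hPy
    haveI := hfin
    haveI := hintY₁
    haveI := hY₁.noeth
    let νy := Curv2.normalizationι Y'
    have hg₁ : IsIso (((νy ≫ by') ≫ M.g).stalkMap (genericPoint (Curv2.normalization Y'))) :=
      NormSeq.isIso_stalkMap_comp (νy ≫ by') M.g hbir₁ M.bir
    let M₁ : PointMod Z x :=
      { Y := Curv2.normalization Y', g := (νy ≫ by') ≫ M.g, bir := hg₁, nice := hY₁
        off := fun w hw => by
          rw [Scheme.Hom.stalkMap_comp]
          haveI := M.off ((νy ≫ by') w) (by rwa [← Scheme.Hom.comp_apply])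
          haveI := hoff₁ w fun h => hw (by rw [Scheme.Hom.comp_apply, h]; exact over_x M E hqcl)
          infer_instance }
    obtain ⟨hintQ₁, hnQ₁, hbirQ₁⟩ := integral_Q M₁ E
    haveI := hintQ₁
    let π₁ : Q C M₁ ⟶ Q C M := pullback.lift ((toY C M₁ ≫ νy) ≫ by') (toC C M₁) (by
      have h : toY C M₁ ≫ ((νy ≫ by') ≫ M.g) = toC C M₁ ≫ g₀ x C := pullback.condition
      simpa only [Category.assoc] using h)
    let m : Q C M₁ ⟶ pullback (toY C M) by' := pullback.lift π₁ (toY C M₁ ≫ νy) (pullback.lift_fst _ _ _)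
    have hbot : IsPullback (pullback.snd (toY C M) by') (pullback.fst (toY C M) by' ≫ toC C M) (by' ≫ M.g) (g₀ x C) :=
      IsPullback.paste_vert (IsPullback.of_hasPullback (toY C M) by').flip (IsPullback.of_hasPullback M.g (g₀ x C))
    have hm : IsPullback (toY C M₁) m νy (pullback.snd (toY C M) by') := by
      refine IsPullback.of_bot ?_ (pullback.lift_snd _ _ _).symm hbot
      have h1 : m ≫ pullback.fst (toY C M) by' ≫ toC C M = toC C M₁ := by
        rw [← Category.assoc, pullback.lift_fst, pullback.lift_snd]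
      rw [h1, ← Category.assoc]
      exact IsPullback.of_hasPullback ((νy ≫ by') ≫ M.g) (g₀ x C)
    haveI : IsFinite m := MorphismProperty.of_isPullback (P := @IsFinite) hm inferInstance
    have hQ' : BlowUp.IsBlowUp (pullback.fst (toY C M) by') (pt hqc) := by
      have h := BlowUpLib.isBlowUp_of_isPullback (IsPullback.of_hasPullback (toY C M) by') hby
      rwa [pt_comap_toY M E hqcl hy hqc] at h
    have hZ' : BlowUp.IsBlowUp (b ≫ e.hom) (pt hqc) := by
      have hsq : IsPullback (b ≫ e.hom) (𝟙 Z') e.inv b := IsPullback.of_vert_isIso ⟨by simp⟩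
      have h := BlowUpLib.isBlowUp_of_isPullback hsq hb
      rwa [pt_comap_iso e.inv hz hqc (by
        show e.inv (e.hom z) = z
        rw [← Scheme.Hom.comp_apply, e.hom_inv_id]; rfl)] at h
    obtain ⟨e₁, he₁⟩ := BlowUpLib.exists_iso hZ' hQ'
    let μ : Q C M₁ ⟶ Z' := m ≫ e₁.inv
    have hμ : μ ≫ (b ≫ r ≫ c.hom) = toC C M₁ := by
      rw [← he, ← Category.assoc b, ← he₁, Category.assoc, Category.assoc, e₁.inv_hom_id_assoc, ← Category.assoc,
        pullback.lift_fst]
      exact pullback.lift_snd _ _ _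
    haveI : IsLocallyNoetherian W' := LocallyOfFiniteType.isLocallyNoetherian e.hom
    haveI := PointBlow.isProper_point hz hb
    obtain ⟨_, hbgen, hbbir⟩ := (Lib.BlowUpInt.isEmpty_or_birational hb).resolve_left
      fun h => h.false (genericPoint Z')
    have hrc : IsIso ((r ≫ c.hom).stalkMap (genericPoint W')) := by
      rw [← he]
      exact NormSeq.isIso_stalkMap_comp e.hom (toC C M) inferInstance hbirQ
    have hfbir : IsIso ((b ≫ r ≫ c.hom).stalkMap (genericPoint Z')) := by
      rw [Scheme.Hom.stalkMap_comp]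
      haveI := hbbir
      haveI : IsIso ((r ≫ c.hom).stalkMap (b (genericPoint Z'))) := by rw [hbgen]; exact hrc
      infer_instance
    haveI : IsProper (r ≫ c.hom) := he ▸ inferInstance
    have hμgen : μ (genericPoint (Q C M₁)) = genericPoint Z' := by
      refine SurfSeq.eq_of_isIso (b ≫ r ≫ c.hom) hfbir ?_ hfbir
      rw [← Scheme.Hom.comp_apply, hμ, SurfSeq.map_generic (toC C M₁) hbirQ₁,
        SurfSeq.map_generic (b ≫ r ≫ c.hom) hfbir]
    have hμbir : IsIso (μ.stalkMap (genericPoint (Q C M₁))) :=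
      isIso_stalkMap_left μ (b ≫ r ≫ c.hom) _ (by rw [hμ]; exact hbirQ₁) (by rw [hμgen]; exact hfbir)
    haveI : IsLocallyNoetherian Z' := LocallyOfFiniteType.isLocallyNoetherian b
    obtain ⟨h, hh, -⟩ := S9690.result Z' μ hnQ₁ fun w hw => by
      obtain rfl : w = genericPoint (Q C M₁) := by
        have h := hw.2 (IrreducibleSpace.isIrreducible_univ (Q C M₁)) (Set.subset_univ _)
        exact IsGenericPoint.eq (isGenericPoint_def.2 (Set.univ_subset_iff.1 h)) (genericPoint_spec (Q C M₁))
      exact hμgen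
    haveI := Synt29.isIntegral_normalization Z'
    obtain ⟨hνgen, hνbir, hνpre⟩ := Synt29.normalization_generic Z'
    haveI : IsAffineHom (Curv2.normalizationι Z') :=
      inferInstanceAs (IsAffineHom (Z'.fromSpecStalk (genericPoint Z')).fromNormalization)
    haveI : IsFinite (h ≫ Curv2.normalizationι Z') := hh.symm ▸ inferInstance
    haveI : IsFinite h := IsFinite.of_comp h (Curv2.normalizationι Z')
    have hhgen : h (genericPoint (Q C M₁)) = genericPoint (Curv2.normalization Z') := by
      have h1 : h (genericPoint (Q C M₁)) ∈ (Curv2.normalizationι Z').base ⁻¹' {genericPoint Z'} := by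
        show Curv2.normalizationι Z' (h (genericPoint (Q C M₁))) = _
        rw [← Scheme.Hom.comp_apply, hh, hμgen]
      rw [hνpre] at h1
      exact h1
    have hhbir : IsIso (h.stalkMap (genericPoint (Q C M₁))) :=
      isIso_stalkMap_left h (Curv2.normalizationι Z') _ (by rw [hh]; exact hμbir) (by rw [hhgen]; exact hνbir)
    have hn := NormCurve.isNormalScheme_normalization Z'
    have htop : IsIso (h ∣_ (⊤ : (Curv2.normalization Z').Opens)) :=
      Sol.isIso_restrict_of_stalk h hhbir ⊤ ⟨genericPoint _, trivial⟩ fun w _ => isIso_of_finite h hhbir w (hn (h w)).2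
    haveI : IsIso h := (IsZariskiLocalAtTarget.iff_of_iSup_eq_top (P := MorphismProperty.isomorphisms Scheme.{u})
      (fun _ : Unit => (⊤ : (Curv2.normalization Z').Opens)) (by simp)).2 fun _ => htop
    refine ⟨M₁, (asIso h).symm, ?_⟩
    rw [Iso.symm_hom, asIso_inv, IsIso.inv_comp_eq, Category.assoc, Category.assoc, ← Category.assoc h, hh]
    exact hμ.symm

/-- A resolution of the extension by normalized blow-ups spreads to a modification regular over the point. -/
theorem resolve_point_of_seq (hZ : Nice Z) (E : Ext Z x C) {W : Scheme.{u}} {r : W ⟶ Spec (CommRingCat.of C)}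
    (hr : Resolve.IsNormPtBlowupSeq r) (hreg : ∀ w : W, IsRegularLocalRing (W.presheaf.stalk w)) :
    ∃ M : PointMod Z x, ∀ y, M.g y = x → IsRegularLocalRing (M.Y.presheaf.stalk y) := by
  obtain ⟨M, e, -⟩ := lift_seq hZ E hr (Iso.refl _)
  refine ⟨M, fun y hy => ?_⟩
  haveI := M.nice.noeth
  obtain ⟨q, rfl, -⟩ := exists_point (C := C) M E hy
  refine regular_toY M E ?_
  haveI := hreg (e.inv q)
  exact IsRegularLocalRing.of_ringEquiv (asIso (e.inv.stalkMap q)).commRingCatIsoToRingEquiv.symm.symm

end Groth.Agent.SurfRes
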