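import Groth.Agent.SurfRes.Germ
import Groth.Agent.RatCompl.Normal
import Groth.Agent.DoublePt.Main
import Groth.Agent.RegLoc6.Descent
import Groth.Agent.BlowUpLib.Local

/-!
# Base change of modifications to the completed local ring
-/

set_option autoImplicit false
set_option linter.style.haveILetI false
set_option linter.unusedSectionVars false
set_option backward.isDefEq.respectTransparency false
set_option backward.isDefEq.respectTransparency.types false
set_option maxHeartbeats 800000

universe u

open CategoryTheory CategoryTheory.Limits AlgebraicGeometry TopologicalSpace IsLocalRing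
open Groth.Agent.H23.StalkIdeal
open Groth.Agent.NormSeq (Nice)
open Groth.Agent.PointBlow (pt locTo locB)
open Groth.Agent.RatCompl (cR Unr)

noncomputable section

namespace Groth.Agent.SurfRes

variable {Z : Scheme.{u}} [IsIntegral Z] [IsLocallyNoetherian Z] {x : Z}
  {C : Type u} [CommRing C] [Algebra (Z.presheaf.stalk x) C] [Module.Flat (Z.presheaf.stalk x) C]
  [IsLocalRing C] [IsNoetherianRing C] [IsDomain C] [IsIntegrallyClosed C]

/-- The hypotheses on an unramified flat extension of a closed surface point. -/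
structure Ext (Z : Scheme.{u}) (x : Z) (C : Type u) [CommRing C] [Algebra (Z.presheaf.stalk x) C]
    [IsLocalRing C] : Prop where
  hmax : (maximalIdeal (Z.presheaf.stalk x)).map (algebraMap (Z.presheaf.stalk x) C) = maximalIdeal C
  hres : ∀ c : C, ∃ a : Z.presheaf.stalk x, c - algebraMap (Z.presheaf.stalk x) C a ∈ maximalIdeal C
  closed : IsClosed ({x} : Set Z)
  dimA : ringKrullDim (Z.presheaf.stalk x) = 2
  dimC : ringKrullDim C = 2

/-- A modification which is an isomorphism outside a point. -/
structure PointMod (Z : Scheme.{u}) [IsIntegral Z] (x : Z) where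
  Y : Scheme.{u}
  [integral : IsIntegral Y]
  g : Y ⟶ Z
  [proper : IsProper g]
  bir : IsIso (g.stalkMap (genericPoint Y))
  nice : Nice Y
  off : ∀ y, g y ≠ x → IsIso (g.stalkMap y)

attribute [instance] PointMod.integral PointMod.proper

variable (x) (C) in
/-- The morphism from the extension to the scheme. -/
abbrev g₀ : Spec (CommRingCat.of C) ⟶ Z := cR (Z.presheaf.stalk x) C ≫ Z.fromSpecStalk x

variable (C) in
/-- The base change of a modification to the extension. -/
abbrev Q (M : PointMod Z x) : Scheme.{u} := pullback M.g (g₀ x C)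

variable (C) in
/-- The map to the modification. -/
abbrev toY (M : PointMod Z x) : Q C M ⟶ M.Y := pullback.fst M.g (g₀ x C)

variable (C) in
/-- The map to the extension. -/
abbrev toC (M : PointMod Z x) : Q C M ⟶ Spec (CommRingCat.of C) := pullback.snd M.g (g₀ x C)

instance flat_fromSpecStalk : Flat (Z.fromSpecStalk x) := H23.RatExtend.flat_fromSpecStalk Z x

instance flat_g₀ : Flat (g₀ x C) := inferInstanceAs (Flat (cR (Z.presheaf.stalk x) C ≫ Z.fromSpecStalk x))

variable (M : PointMod Z x)

variable (C) in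
/-- The base change in two steps. -/
def twoStep : pullback (locB M.g x) (cR (Z.presheaf.stalk x) C) ≅ Q C M :=
  pullbackLeftPullbackSndIso M.g (Z.fromSpecStalk x) (cR (Z.presheaf.stalk x) C)

theorem twoStep_toY :
    (twoStep C M).hom ≫ toY C M = pullback.fst (locB M.g x) (cR (Z.presheaf.stalk x) C) ≫ locTo M.g x :=
  pullbackLeftPullbackSndIso_hom_fst _ _ _

theorem twoStep_toC :
    (twoStep C M).hom ≫ toC C M = pullback.snd (locB M.g x) (cR (Z.presheaf.stalk x) C) :=
  pullbackLeftPullbackSndIso_hom_snd _ _ _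

variable (E : Ext Z x C)
include E

theorem g₀_closedPoint : g₀ x C (closedPoint C) = x := by
  rw [Scheme.Hom.comp_apply, RatCompl.cR_closedPoint E.hmax]
  exact Scheme.fromSpecStalk_closedPoint

theorem over_x {q : Q C M} (hq : toC C M q = closedPoint C) : M.g (toY C M q) = x := by
  rw [← Scheme.Hom.comp_apply, pullback.condition, Scheme.Hom.comp_apply,
    show pullback.snd M.g (g₀ x C) q = closedPoint C from hq, g₀_closedPoint E]

theorem closed_of_over {q : Q C M} (hq : M.g (toY C M q) = x) : toC C M q = closedPoint C := by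
  rw [← Scheme.Hom.comp_apply, pullback.condition, Scheme.Hom.comp_apply, Scheme.Hom.comp_apply] at hq
  exact RatCompl.eq_closedPoint E.hmax ((Z.fromSpecStalk x).isEmbedding.injective
    (hq.trans Scheme.fromSpecStalk_closedPoint.symm))

theorem exists_point {y : M.Y} (hy : M.g y = x) : ∃ q : Q C M, toY C M q = y ∧ toC C M q = closedPoint C := by
  obtain ⟨q, h1, h2⟩ := Scheme.Pullback.exists_preimage_pullback (f := M.g) (g := g₀ x C) y (closedPoint C)
    (by rw [hy, g₀_closedPoint E])
  exact ⟨q, h1, h2⟩

theorem local_setup :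
    ∃ (_ : IsIntegral (pullback M.g (Z.fromSpecStalk x))), IsIso ((locB M.g x).stalkMap
      (genericPoint (pullback M.g (Z.fromSpecStalk x) : Scheme.{u}))) ∧
      Pi1.IsNormalScheme (pullback M.g (Z.fromSpecStalk x)) ∧
      (∀ p : (pullback M.g (Z.fromSpecStalk x) : Scheme.{u}),
        ringKrullDim ((pullback M.g (Z.fromSpecStalk x)).presheaf.stalk p) ≤ 2) ∧
      ∃ U : (Spec (Z.presheaf.stalk x)).Opens, (U : Set (Spec (Z.presheaf.stalk x))).Nonempty ∧
        IsIso (locB M.g x ∣_ U) ∧ ∀ t : Spec (Z.presheaf.stalk x), t ∉ U → t = closedPoint _ := by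
  obtain ⟨hint, -, hbirP⟩ := exists_integral_loc (x := x) M.bir
  haveI := hint
  refine ⟨hint, hbirP, fun p => ?_, fun p => (dim_locTo p).trans_le (M.nice.dim _),
    ⟨{closedPoint _}ᶜ, (isClosed_singleton_closedPoint _).isOpen_compl⟩, ?_, ?_, fun t ht => not_not.1 ht⟩
  · haveI := isIso_locTo M.g x p
    haveI := (M.nice.normal (locTo M.g x p)).2
    exact ⟨inferInstance, IsIntegrallyClosed.of_equiv (asIso ((locTo M.g x).stalkMap p)).commRingCatIsoToRingEquiv⟩
  · refine ⟨⟨⊥, Ideal.isPrime_bot⟩, fun h => ?_⟩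
    exact RatSing.maximalIdeal_ne_bot (A := Z.presheaf.stalk x) E.dimA (congrArg PrimeSpectrum.asIdeal h).symm
  · refine Sol.isIso_restrict_of_stalk (locB M.g x) hbirP _ ?_ fun p hp => ?_
    · refine ⟨⟨⊥, Ideal.isPrime_bot⟩, fun h => ?_⟩
      exact RatSing.maximalIdeal_ne_bot (A := Z.presheaf.stalk x) E.dimA (congrArg PrimeSpectrum.asIdeal h).symm
    · have hne : M.g (locTo M.g x p) ≠ x := fun h => hp (by
        rw [← Scheme.Hom.comp_apply, pullback.condition, Scheme.Hom.comp_apply] at h
        exact (Z.fromSpecStalk x).isEmbedding.injective (h.trans Scheme.fromSpecStalk_closedPoint.symm))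
      haveI := M.off _ hne
      haveI := isIso_locTo M.g x p
      haveI : IsIso ((locTo M.g x ≫ M.g).stalkMap p) := by rw [Scheme.Hom.stalkMap_comp]; infer_instance
      haveI : IsIso ((locB M.g x ≫ Z.fromSpecStalk x).stalkMap p) := by rw [← pullback.condition]; infer_instance
      haveI := H23.FFDescent.isIso_stalkMap_of_flat_of_isPreimmersion (Z.fromSpecStalk x) (locB M.g x p)
      haveI : IsIso ((Z.fromSpecStalk x).stalkMap (locB M.g x p) ≫ (locB M.g x).stalkMap p) :=
        Scheme.Hom.stalkMap_comp (locB M.g x) (Z.fromSpecStalk x) p ▸ inferInstance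
      exact IsIso.of_isIso_comp_left ((Z.fromSpecStalk x).stalkMap (locB M.g x p)) _

/-- The base change is an integral normal scheme, birational over the extension. -/
theorem integral_Q :
    ∃ _ : IsIntegral (Q C M), Pi1.IsNormalScheme (Q C M) ∧
      IsIso ((toC C M).stalkMap (genericPoint (Q C M))) := by
  obtain ⟨hint, -, hn, hd, U, hU, hiso, hUc⟩ := local_setup M E
  haveI := hint
  haveI := hiso
  obtain ⟨hi, hnQ⟩ := RatCompl.isIntegral_bc (A := Z.presheaf.stalk x) (R := C) E.hmax E.hres E.dimA E.dimC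
    (locB M.g x) hn hd hU hUc
  haveI := hi
  haveI : Nonempty (Q C M) := ⟨(twoStep C M).hom (genericPoint _)⟩
  haveI hint' : IsIntegral (Q C M) := IsIntegral.of_isIso (twoStep C M).hom
  refine ⟨hint', fun q => ?_, ?_⟩
  · haveI := (hnQ ((twoStep C M).inv q)).2
    exact ⟨inferInstance, IsIntegrallyClosed.of_equiv
      (asIso ((twoStep C M).inv.stalkMap q)).commRingCatIsoToRingEquiv.symm.symm⟩
  · have hne : ((RatCompl.U' (A := Z.presheaf.stalk x) (R := C) (U := U)) : Set (Spec (CommRingCat.of C))).Nonempty := by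
      refine ⟨⟨⊥, Ideal.isPrime_bot⟩, RatCompl.mem_U' E.hmax hUc fun h => ?_⟩
      exact RatSing.maximalIdeal_ne_bot (A := C) E.dimC (congrArg PrimeSpectrum.asIdeal h).symm
    haveI : IsIso (((twoStep C M).inv ≫ pullback.snd (locB M.g x) (cR (Z.presheaf.stalk x) C)) ∣_
        RatCompl.U' (A := Z.presheaf.stalk x) (R := C) (U := U)) := by
      rw [morphismRestrict_comp]
      haveI : IsIso (pullback.snd (locB M.g x) (cR (Z.presheaf.stalk x) C) ∣_
          RatCompl.U' (A := Z.presheaf.stalk x) (R := C) (U := U)) := RatCompl.isIso_snd (A := Z.presheaf.stalk x) (R := C) (locB M.g x) (U := U)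
      infer_instance
    have h := (twoStep C M).inv_hom_id_assoc (toC C M)
    rw [twoStep_toC] at h
    exact (RatSing.birational_of_isIso (toC C M) ⟨RatCompl.U' (A := Z.presheaf.stalk x) (R := C) (U := U), hne, h ▸ inferInstance⟩).2

theorem unr_toY {q : Q C M} (hq : toC C M q = closedPoint C) : Unr ((toY C M).stalkMap q) := by
  let q' := (twoStep C M).inv q
  obtain ⟨hintP, -, -, -, -⟩ := local_setup M E
  haveI := hintP
  have hq' : pullback.snd (locB M.g x) (cR (Z.presheaf.stalk x) C) q' = closedPoint C := by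
    rw [← twoStep_toC, ← Scheme.Hom.comp_apply, (twoStep C M).inv_hom_id_assoc]
    exact hq
  have h1 := RatCompl.unr_bc (A := Z.presheaf.stalk x) (R := C) E.hmax E.hres (locB M.g x) hq'
  let p := pullback.fst (locB M.g x) (cR (Z.presheaf.stalk x) C)
  haveI := isIso_locTo M.g x (p q')
  have key : Unr (((twoStep C M).inv ≫ p ≫ locTo M.g x).stalkMap q) := by
    refine RatCompl.unr_of_iso _ _ (asIso ((locTo M.g x).stalkMap (p q'))).symm (asIso ((twoStep C M).inv.stalkMap q)) ?_ h1
    rw [Scheme.Hom.stalkMap_comp, Scheme.Hom.stalkMap_comp]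
    simp [q', p]
  have he : (twoStep C M).inv ≫ p ≫ locTo M.g x = toY C M := by
    rw [← twoStep_toY, (twoStep C M).inv_hom_id_assoc]
  refine RatCompl.unr_of_iso _ _ ((M.Y.presheaf.stalkCongr (.of_eq (by rw [he])))) (Iso.refl _) ?_ key
  rw [Scheme.Hom.stalkMap_congr_hom _ _ he q]
  simp

omit E in
theorem flat_toY_stalk (q : Q C M) : ((toY C M).stalkMap q).hom.Flat := Flat.stalkMap _ q

theorem unr_g₀ : Unr ((g₀ x C).stalkMap (closedPoint C)) := by
  have h : (closedPoint C).asIdeal = ((closedPoint C).asIdeal.comap (algebraMap (Z.presheaf.stalk x) C)).map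
      (algebraMap (Z.presheaf.stalk x) C) := by
    refine le_antisymm ?_ Ideal.map_comap_le
    show maximalIdeal C ≤ _
    rw [← E.hmax]
    exact Ideal.map_mono (by rw [← Ideal.map_le_iff_le_comap, E.hmax]; exact le_rfl)
  have h1 := RatCompl.unr_Spec (CommRingCat.ofHom (algebraMap (Z.presheaf.stalk x) C)) (closedPoint C) h E.hres
  haveI := H23.FFDescent.isIso_stalkMap_of_flat_of_isPreimmersion (Z.fromSpecStalk x)
    (cR (Z.presheaf.stalk x) C (closedPoint C))
  refine RatCompl.unr_of_iso _ _ (asIso ((Z.fromSpecStalk x).stalkMap (cR (Z.presheaf.stalk x) C (closedPoint C)))).symm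
    (Iso.refl _) ?_ h1
  rw [Scheme.Hom.stalkMap_comp]
  simp

/-- The closed fibres correspond bijectively. -/
theorem inj_over {q q' : Q C M} (hq : toC C M q = closedPoint C) (hq' : toC C M q' = closedPoint C)
    (h : toY C M q = toY C M q') : q = q' := by
  have hk : IsIso ((g₀ x C).residueFieldMap (closedPoint C)) := by
    refine (ConcreteCategory.isIso_iff_bijective _).2 ⟨RingHom.injective _, fun t => ?_⟩
    obtain ⟨s, rfl⟩ := (Spec (CommRingCat.of C)).residue_surjective (closedPoint C) t
    obtain ⟨r, hr⟩ := (unr_g₀ E).2 s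
    refine ⟨Z.residue _ r, ?_⟩
    rw [show (g₀ x C).residueFieldMap (closedPoint C) (Z.residue _ r) =
      (Spec (CommRingCat.of C)).residue (closedPoint C) ((g₀ x C).stalkMap (closedPoint C) r) from
        congr($(Scheme.residue_residueFieldMap (g₀ x C) (closedPoint C)) r)]
    exact (Ideal.Quotient.eq.2 hr).symm
  refine Scheme.Pullback.carrierEquiv.injective ?_
  have hT : Scheme.Pullback.Triplet.ofPoint q = Scheme.Pullback.Triplet.ofPoint q' :=
    Scheme.Pullback.Triplet.ext h (hq.trans hq'.symm)
  have hs : Subsingleton (Spec (Scheme.Pullback.Triplet.ofPoint q').tensor) := by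
    let T := Scheme.Pullback.Triplet.ofPoint q'
    have hy : T.y = closedPoint C := hq'
    haveI : IsIso ((g₀ x C).residueFieldMap T.y) := hy.symm ▸ hk
    let e : M.Y.residueField T.x ≅ T.tensor := @asIso _ _ _ _ T.tensorInl
      (inferInstanceAs (IsIso (pushout.inl _ ((Z.residueFieldCongr T.hy).inv ≫ (g₀ x C).residueFieldMap T.y))))
    have : Subsingleton (Spec (M.Y.residueField T.x)) :=
      inferInstanceAs (Subsingleton (PrimeSpectrum (M.Y.residueField T.x)))
    exact (Spec.map e.hom).homeomorph.toEquiv.subsingleton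
  rw [Scheme.Pullback.carrierEquiv_eq_iff]
  exact ⟨hT, @Subsingleton.elim _ hs _ _⟩

/-- Closed points correspond on the closed fibres. -/
theorem isClosed_toY {q : Q C M} (hqc : IsClosed ({q} : Set (Q C M))) (hq : toC C M q = closedPoint C) :
    IsClosed ({toY C M q} : Set M.Y) := by
  refine isClosed_of_closure_subset fun y' hy' => ?_
  have hsp : toY C M q ⤳ y' := specializes_iff_mem_closure.2 hy'
  have hgy : M.g y' = x := by
    have h1 : M.g (toY C M q) ⤳ M.g y' := hsp.map M.g.continuous
    rw [over_x M E hq] at h1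
    exact h1.mem_closed E.closed rfl
  obtain ⟨q', rfl, hq'⟩ := exists_point M E hgy
  obtain ⟨q'', hsp', hq''⟩ := Flat.generalizingMap (toY C M) hsp
  have hc : toC C M q'' = closedPoint C := closed_of_over M E (by rw [hq'', over_x M E hq])
  obtain rfl : q'' = q := inj_over M E hc hq hq''
  have h2 : q' = q'' := hsp'.mem_closed hqc rfl
  rw [h2]
  rfl

/-- Point ideals restrict to point ideals. -/
theorem pt_comap_toY {q : Q C M} (hq : toC C M q = closedPoint C) (hy : IsClosed ({toY C M q} : Set M.Y))
    (hqc : IsClosed ({q} : Set (Q C M))) : (pt hy).comap (toY C M) = pt hqc := by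
  refine ext_sI fun w => ?_
  by_cases hw : w = q
  · subst hw
    rw [sI_comap, NormSeq.sI_pt hy, NormSeq.sI_pt hqc]
    exact (unr_toY M E hq).1
  · rw [PointBlow.sI_eq_top, PointBlow.sI_eq_top]
    · exact fun hmem => hw ((PointBlow.mem_support_pt hqc w).1 hmem)
    · intro hmem
      have h := (PointBlow.mem_support_exc hy w).1 hmem
      exact hw (inj_over M E (closed_of_over M E (by rw [h, over_x M E hq])) hq h)

/-- Regularity descends. -/
theorem regular_toY {q : Q C M} [IsLocallyNoetherian M.Y] (h : IsRegularLocalRing ((Q C M).presheaf.stalk q)) :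
    IsRegularLocalRing (M.Y.presheaf.stalk (toY C M q)) := by
  letI := ((toY C M).stalkMap q).hom.toAlgebra
  haveI : Module.Flat (M.Y.presheaf.stalk (toY C M q)) ((Q C M).presheaf.stalk q) := flat_toY_stalk M q
  haveI : IsLocalHom (algebraMap (M.Y.presheaf.stalk (toY C M q)) ((Q C M).presheaf.stalk q)) :=
    inferInstanceAs (IsLocalHom ((toY C M).stalkMap q).hom)
  haveI := h
  exact RegLoc6.isRegularLocalRing_of_flat (A := M.Y.presheaf.stalk (toY C M q)) (B := (Q C M).presheaf.stalk q)

end Groth.Agent.SurfRes
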