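import Groth.Agent.SurfRes.Germ
import Groth.Agent.RegRes.Main
import Groth.Agent.DoublePt.Main

/-!
# Spreading out a resolution of a local scheme
-/

set_option autoImplicit false
set_option linter.style.haveILetI false
set_option linter.unusedSectionVars false
set_option backward.isDefEq.respectTransparency false
set_option backward.isDefEq.respectTransparency.types false
set_option maxHeartbeats 800000

universe u

open CategoryTheory CategoryTheory.Limits AlgebraicGeometry TopologicalSpace IsLocalRing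
open Groth.Agent.H23.StalkIdeal
open Groth.Agent.NormSeq (Nice dim_le isEffCartier_comap isIso_of_finite)
open Groth.Agent.PointBlow (pt locTo locB)

noncomputable section

namespace Groth.Agent.SurfRes

/-- The normalized blow-up of a closed surface point. -/
theorem exists_blowUp_lift' {Z : Scheme.{u}} (hZ : Nice Z) [IsIntegral Z] {z : Z} (hz : IsClosed ({z} : Set Z))
    (hd : ringKrullDim (Z.presheaf.stalk z) = 2) :
    ∃ (Z₁ : Scheme.{u}) (h : Z₁ ⟶ Z) (_ : IsIntegral Z₁), Nice Z₁ ∧ IsProper h ∧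
      (∀ (X₀ : Scheme.{u}) (r : Z ⟶ X₀), Resolve.IsNormPtBlowupSeq r → Resolve.IsNormPtBlowupSeq (h ≫ r)) ∧
      IsIso (h.stalkMap (genericPoint Z₁)) ∧ BlowUp.IsEffCartierIdeal ((pt hz).comap h) ∧
      (∀ w, h w ≠ z → IsIso (h.stalkMap w)) ∧
      ∀ (W : Scheme.{u}) [IsIntegral W] (g : W ⟶ Z), Pi1.IsNormalScheme W →
        g (genericPoint W) = genericPoint Z → BlowUp.IsEffCartierIdeal ((pt hz).comap g) → ∃ k : W ⟶ Z₁, k ≫ h = g := by
  haveI := hZ.noeth
  obtain ⟨Z', b, hb⟩ := BlowUpLib.exists_blowUp (C := pt hz)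
  haveI := PointBlow.isProper_point hz hb
  have hne : genericPoint Z ≠ z := fun h => by
    have h2 : Order.coheight z = 2 :=
      WithBot.coe_eq_coe.1 (((ringKrullDim_stalk_eq_coheight z).symm.trans hd).trans (by rfl))
    have h0 : Order.coheight z = 0 := Order.coheight_eq_zero.2 fun w _ => show w ≤ z from
      h ▸ genericPoint_specializes w
    exact absurd (h2.symm.trans h0) (by decide)
  obtain ⟨hint, -, hbiso⟩ :
      ∃ _ : IsIntegral Z', b (genericPoint Z') = genericPoint Z ∧ IsIso (b.stalkMap (genericPoint Z')) := by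
    refine (Lib.BlowUpInt.isEmpty_or_birational hb).resolve_left fun hE => ?_
    haveI := PointBlow.isIso_off hz hb
    exact hE.false ((inv (b ∣_ (⟨{z}ᶜ, hz.isOpen_compl⟩ : Z.Opens))) ⟨genericPoint Z, hne⟩).1
  haveI := hint
  haveI : IsLocallyNoetherian Z' := LocallyOfFiniteType.isLocallyNoetherian b
  haveI : IsFinite (Curv2.normalizationι Z') := hZ.fin Z' b hbiso
  have hnorm := NormCurve.isNormalScheme_normalization Z'
  haveI hint₁ : IsIntegral (Curv2.normalization Z') :=
    inferInstanceAs (IsIntegral (Z'.fromSpecStalk (genericPoint Z')).normalization)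
  let ν := Curv2.normalizationι Z'
  obtain ⟨V, hV, hiso⟩ := BMLib.exists_isIso_normalizationι Z'
  haveI := hiso
  haveI : IsOpenImmersion ((ν ⁻¹ᵁ V).ι ≫ ν) := by
    rw [← morphismRestrict_ι]; infer_instance
  have hW : ((ν ⁻¹ᵁ V) : Set ↥(Curv2.normalization Z')).Nonempty := by
    obtain ⟨v, hv⟩ := hV
    exact ⟨(inv (ν ∣_ V) ⟨v, hv⟩).1, (inv (ν ∣_ V) ⟨v, hv⟩).2⟩
  have hν : IsIso (ν.stalkMap (genericPoint (Curv2.normalization Z'))) :=
    PurBir.isIso_stalkMap_of_mem ν (PurBir.genericPoint_mem hW)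
  haveI : IsLocallyNoetherian (Curv2.normalization Z') := LocallyOfFiniteType.isLocallyNoetherian (ν ≫ b)
  haveI : CompactSpace (Curv2.normalization Z') := QuasiCompact.compactSpace_of_compactSpace (ν ≫ b)
  have hgen : IsIso ((ν ≫ b).stalkMap (genericPoint (Curv2.normalization Z'))) := by
    rw [Scheme.Hom.stalkMap_comp]
    haveI := hν
    haveI : IsIso (b.stalkMap (ν (genericPoint (Curv2.normalization Z')))) := by
      rw [SurfSeq.map_generic ν hν]; exact hbiso
    infer_instance
  refine ⟨Curv2.normalization Z', ν ≫ b, hint₁, ⟨hint₁, {}, hnorm, hZ.fin_comp (ν ≫ b) hgen, fun w => ?_⟩, inferInstance, fun X₀ r hr => ?_,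
    hgen, ?_, fun w hw => ?_, fun W _ g hWn hg hgc => ?_⟩
  · exact (dim_le (ν ≫ b) hgen w).trans (hZ.dim _)
  · rw [Category.assoc]
    exact Resolve.IsNormPtBlowupSeq.step b r z hz hb hr
  · rw [Scheme.IdealSheafData.comap_comp]
    exact isEffCartier_comap ν hν hb.1
  · haveI hbw := PointBlow.isIso_stalkMap_off hz hb (z := ν w) hw
    have hic : IsIntegrallyClosed (Z'.presheaf.stalk (ν w)) := by
      haveI := (hZ.normal (b (ν w))).2
      exact IsIntegrallyClosed.of_equiv (asIso (b.stalkMap (ν w))).commRingCatIsoToRingEquiv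
    haveI := isIso_of_finite ν hν w hic
    rw [Scheme.Hom.stalkMap_comp]
    infer_instance
  · obtain ⟨g', hg', -⟩ := hb.2 W g hgc
    have hgen' : g' (genericPoint W) = genericPoint Z' := by
      by_contra hne'
      have h1 : b (g' (genericPoint W)) = genericPoint Z := by
        rw [← Scheme.Hom.comp_apply, hg', hg]
      refine hne' (PointBlow.injective_off hz hb (h1 ▸ hne) (h1.trans (SurfSeq.map_generic b hbiso).symm))
    obtain ⟨k, hk, -⟩ := S9690.result Z' g' hWn fun w hw => by
      obtain rfl : w = genericPoint W := by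
        have h := hw.2 (IrreducibleSpace.isIrreducible_univ W) (Set.subset_univ _)
        exact IsGenericPoint.eq (isGenericPoint_def.2 (Set.univ_subset_iff.1 h)) (genericPoint_spec W)
      exact hgen'
    exact ⟨k, by rw [← hg', ← hk, Category.assoc]⟩


open Groth.Agent.RegRes (exc exc_finite exists_dim_one surjective isIso_stalkMap_left)

variable {Z : Scheme.{u}} [IsIntegral Z] [IsLocallyNoetherian Z] {x : Z} {X' : Scheme.{u}} [IsIntegral X']
  (r : X' ⟶ Spec (Z.presheaf.stalk x)) [IsProper r]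

/-- A resolution of the local scheme dominating the base change is birational over it. -/
theorem birational_k (hrbir : IsIso (r.stalkMap (genericPoint X'))) {Y : Scheme.{u}} [IsIntegral Y] (g : Y ⟶ Z)
    [IsProper g] (hbir : IsIso (g.stalkMap (genericPoint Y))) [IsIntegral (pullback g (Z.fromSpecStalk x))]
    (k : X' ⟶ pullback g (Z.fromSpecStalk x)) (hk : k ≫ locB g x = r) :
    k (genericPoint X') = genericPoint (pullback g (Z.fromSpecStalk x) : Scheme.{u}) ∧
      IsIso (k.stalkMap (genericPoint X')) := by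
  obtain ⟨hint, -, hbirP⟩ := exists_integral_loc (x := x) hbir
  have hkgen : k (genericPoint X') = genericPoint (pullback g (Z.fromSpecStalk x) : Scheme.{u}) := by
    refine SurfSeq.eq_of_isIso (locB g x) hbirP ?_ hbirP
    rw [← Scheme.Hom.comp_apply, hk, SurfSeq.map_generic r hrbir, SurfSeq.map_generic (locB g x) hbirP]
  exact ⟨hkgen, isIso_stalkMap_left k (locB g x) _ (by rw [hk]; exact hrbir) (by rw [hkgen]; exact hbirP)⟩

variable (hreg : ∀ w : X', IsRegularLocalRing (X'.presheaf.stalk w))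
  (hrbir : IsIso (r.stalkMap (genericPoint X'))) (hx : IsClosed ({x} : Set Z))
  (hrat : ∀ (Y : Scheme.{u}) [IsIntegral Y] (g : Y ⟶ Z) [IsProper g], IsIso (g.stalkMap (genericPoint Y)) →
    Nice Y → ∀ y : Y, g y = x → ringKrullDim (Y.presheaf.stalk y) = 2 → Curv2.IsRationalSing (Y.presheaf.stalk y))
include hreg hrbir hx hrat

theorem resolve_aux (n : ℕ) : ∀ (Y : Scheme.{u}) [IsIntegral Y] (g : Y ⟶ Z) [IsProper g],
    IsIso (g.stalkMap (genericPoint Y)) → Nice Y → (∀ y, g y ≠ x → IsIso (g.stalkMap y)) →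
    ∀ (k : X' ⟶ pullback g (Z.fromSpecStalk x)), k ≫ locB g x = r → (exc k).ncard ≤ n →
    ∃ (Y' : Scheme.{u}) (g' : Y' ⟶ Z) (_ : IsIntegral Y'), IsProper g' ∧ IsIso (g'.stalkMap (genericPoint Y')) ∧
      Nice Y' ∧ (∀ y, g' y ≠ x → IsIso (g'.stalkMap y)) ∧
      ∀ y, g' y = x → IsRegularLocalRing (Y'.presheaf.stalk y) := by
  induction n using Nat.strong_induction_on with
  | _ n ih =>
    intro Y _ g _ hbir hY hoff k hk hn
    by_cases hall : ∀ y, g y = x → IsRegularLocalRing (Y.presheaf.stalk y)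
    · exact ⟨Y, g, inferInstance, inferInstance, hbir, hY, hoff, hall⟩
    push Not at hall
    obtain ⟨z, hzx, hz⟩ := hall
    haveI := hY.noeth
    obtain ⟨hzc, hd⟩ := DoublePt.dim_of_singular hY z hz
    obtain ⟨q, rfl⟩ := exists_locTo (g := g) (x := x) (y := z) (by rw [hzx])
    obtain ⟨hintQ, hgenQ, hbirQ⟩ := exists_integral_loc (x := x) hbir
    haveI := hintQ
    haveI : IsLocallyNoetherian (pullback g (Z.fromSpecStalk x)) :=
      LocallyOfFiniteType.isLocallyNoetherian (locB g x)
    haveI : IsLocallyNoetherian X' := LocallyOfFiniteType.isLocallyNoetherian r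
    haveI : CompactSpace X' := QuasiCompact.compactSpace_of_compactSpace r
    haveI : IsNoetherian X' := {}
    obtain ⟨hkgen, hkbir⟩ := birational_k r hrbir g hbir k hk
    haveI : IsProper (k ≫ locB g x) := hk.symm ▸ ‹IsProper r›
    haveI : IsProper k := IsProper.of_comp k (locB g x)
    have hqc := isClosed_singleton_loc (g := g) (x := x) hzc
    haveI := (hY.normal (locTo g x q)).1
    haveI := (hY.normal (locTo g x q)).2
    haveI hiq := isIso_locTo g x q
    let eq := (asIso ((locTo g x).stalkMap q)).commRingCatIsoToRingEquiv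
    haveI : IsIntegrallyClosed ((pullback g (Z.fromSpecStalk x)).presheaf.stalk q) := IsIntegrallyClosed.of_equiv eq
    have hdq := (dim_locTo (g := g) q).trans hd
    have hE : BlowUp.IsEffCartierIdeal ((pt hqc).comap k) :=
      RegRes.pt_comap_isEffCartier k hkbir hreg hqc hdq
        (RatUp.isRationalSing_of_ringEquiv eq (hrat Y g hbir hY _ hzx hd))
        (fun h => hz (by haveI := h; exact IsRegularLocalRing.of_ringEquiv eq.symm))
    obtain ⟨Z₁, h₁, hint, hZ₁, hP, -, hbir₁, hcar, hoff₁, hlift⟩ := exists_blowUp_lift' hY hzc hd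
    haveI := hint
    haveI := hP
    haveI := hZ₁.noeth
    have hgenk : (k ≫ locTo g x) (genericPoint X') = genericPoint Y := by
      rw [Scheme.Hom.comp_apply, hkgen, hgenQ]
    obtain ⟨k₁, hk₁⟩ := hlift X' (k ≫ locTo g x) (FrobTwist.isNormalScheme_of_regular hreg) hgenk
      (by rw [Scheme.IdealSheafData.comap_comp, pt_comap_locTo hzc hqc]; exact hE)
    let g₁ : Z₁ ⟶ Z := h₁ ≫ g
    have hg₁bir : IsIso (g₁.stalkMap (genericPoint Z₁)) := NormSeq.isIso_stalkMap_comp h₁ g hbir₁ hbir
    have hoff' : ∀ w, g₁ w ≠ x → IsIso (g₁.stalkMap w) := fun w hw => by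
      rw [Scheme.Hom.stalkMap_comp]
      haveI := hoff (h₁ w) (by rwa [← Scheme.Hom.comp_apply])
      haveI := hoff₁ w fun h => hw (by rw [Scheme.Hom.comp_apply, h]; exact hzx)
      infer_instance
    have hcomm : k₁ ≫ g₁ = r ≫ Z.fromSpecStalk x := by
      rw [← Category.assoc, hk₁, Category.assoc, pullback.condition, ← Category.assoc, hk]
    let k' : X' ⟶ pullback g₁ (Z.fromSpecStalk x) := pullback.lift k₁ r hcomm
    have hk' : k' ≫ locB g₁ x = r := pullback.lift_snd _ _ _
    let π : pullback g₁ (Z.fromSpecStalk x) ⟶ pullback g (Z.fromSpecStalk x) :=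
      pullback.lift (locTo g₁ x ≫ h₁) (locB g₁ x) (by rw [Category.assoc]; exact pullback.condition)
    have hπ : π ≫ locB g x = locB g₁ x := pullback.lift_snd _ _ _
    have hπk : k' ≫ π = k := by
      refine pullback.hom_ext ?_ ?_
      · rw [Category.assoc, pullback.lift_fst, ← Category.assoc, pullback.lift_fst]
        exact hk₁
      · rw [Category.assoc, pullback.lift_snd, pullback.lift_snd]
        exact hk.symm
    obtain ⟨hintQ', hgenQ', hbirQ'⟩ := exists_integral_loc (x := x) hg₁bir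
    haveI := hintQ'
    haveI : IsLocallyNoetherian (pullback g₁ (Z.fromSpecStalk x)) :=
      LocallyOfFiniteType.isLocallyNoetherian (locB g₁ x)
    obtain ⟨hkgen', hkbir'⟩ := birational_k r hrbir g₁ hg₁bir k' hk'
    haveI : IsProper (k' ≫ locB g₁ x) := hk'.symm ▸ ‹IsProper r›
    haveI : IsProper k' := IsProper.of_comp k' (locB g₁ x)
    haveI : LocallyOfFiniteType (π ≫ locB g x) := hπ.symm ▸ inferInstance
    haveI : LocallyOfFiniteType π := locallyOfFiniteType_of_comp π (locB g x)
    have hπbir : IsIso (π.stalkMap (genericPoint (pullback g₁ (Z.fromSpecStalk x) : Scheme.{u}))) := by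
      have hπgen : π (genericPoint (pullback g₁ (Z.fromSpecStalk x) : Scheme.{u})) =
          genericPoint (pullback g (Z.fromSpecStalk x) : Scheme.{u}) := by
        rw [← hkgen', ← Scheme.Hom.comp_apply, hπk, hkgen]
      exact isIso_stalkMap_left π (locB g x) _ (by rw [hπ]; exact hbirQ') (by rw [hπgen]; exact hbirQ)
    have hdQ : ∀ p : (pullback g (Z.fromSpecStalk x) : Scheme.{u}),
        ringKrullDim ((pullback g (Z.fromSpecStalk x)).presheaf.stalk p) ≤ 2 := fun p =>
      (dim_locTo (g := g) p).trans_le (hY.dim _)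
    have hsub : exc k' ⊂ exc k := by
      refine ⟨fun ξ hξ => ⟨hξ.1, le_antisymm (hdQ _) ?_⟩, fun hle => ?_⟩
      · rw [← hπk, Scheme.Hom.comp_apply, ← hξ.2]
        exact dim_le π hπbir _
      obtain ⟨w, hw⟩ := surjective h₁ hbir₁ (locTo g x q)
      obtain ⟨ξ₁, hξ₁, hd₁⟩ := exists_dim_one hcar ((PointBlow.mem_support_exc hzc w).2 hw)
      have hξz : h₁ ξ₁ = locTo g x q := (PointBlow.mem_support_exc hzc _).1 hξ₁
      obtain ⟨p₁, rfl⟩ := exists_locTo (g := g₁) (x := x) (y := ξ₁) (by rw [Scheme.Hom.comp_apply, hξz, hzx])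
      obtain ⟨ξ, rfl⟩ := surjective k' hkbir' p₁
      have hd₁' := (dim_locTo (g := g₁) (k' ξ)).trans hd₁
      haveI : IsIntegrallyClosed ((pullback g₁ (Z.fromSpecStalk x)).presheaf.stalk (k' ξ)) := by
        haveI := isIso_locTo g₁ x (k' ξ)
        haveI := (hZ₁.normal (locTo g₁ x (k' ξ))).2
        exact IsIntegrallyClosed.of_equiv (asIso ((locTo g₁ x).stalkMap (k' ξ))).commRingCatIsoToRingEquiv
      haveI := RatUp.isIso_of_dim_le_one_normal k' hkbir' ξ inferInstance hd₁'.le
      have h1 : ξ ∈ exc k := by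
        refine ⟨(ringKrullDim_eq_of_ringEquiv (asIso (k'.stalkMap ξ)).commRingCatIsoToRingEquiv).symm.trans hd₁', ?_⟩
        have hkξ : locTo g x (k ξ) = locTo g x q := by
          rw [← hξz, ← hπk, Scheme.Hom.comp_apply, ← Scheme.Hom.comp_apply, pullback.lift_fst, Scheme.Hom.comp_apply]
        rw [(locTo g x).isEmbedding.injective hkξ]
        exact hdq
      have h2 := (hle h1).2
      rw [hd₁'] at h2
      exact absurd (WithBot.coe_eq_coe.1 (h2 : ((1 : ℕ∞) : WithBot ℕ∞) = ((2 : ℕ∞) : WithBot ℕ∞))) (by decide)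
    have hlt := Set.ncard_lt_ncard hsub (exc_finite k hkbir)
    exact ih (exc k').ncard (lt_of_lt_of_le hlt hn) Z₁ g₁ hg₁bir hZ₁ hoff' k' hk' le_rfl

/-- A resolution of a local scheme spreads to a modification regular over the point. -/
theorem resolve_point (hZ : Nice Z) :
    ∃ (Y' : Scheme.{u}) (g' : Y' ⟶ Z) (_ : IsIntegral Y'), IsProper g' ∧ IsIso (g'.stalkMap (genericPoint Y')) ∧
      Nice Y' ∧ (∀ y, g' y ≠ x → IsIso (g'.stalkMap y)) ∧
      ∀ y, g' y = x → IsRegularLocalRing (Y'.presheaf.stalk y) := by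
  let k : X' ⟶ pullback (𝟙 Z) (Z.fromSpecStalk x) := pullback.lift (r ≫ Z.fromSpecStalk x) r (Category.comp_id _)
  exact resolve_aux r hreg hrbir hx hrat _ Z (𝟙 Z) inferInstance hZ (fun _ _ => inferInstance) k
    (pullback.lift_snd _ _ _) le_rfl

end Groth.Agent.SurfRes
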